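import Groth.Agent.H13SchFin.GeomPt
import Groth.Prelude.Def_SchFin2
import Mathlib.RingTheory.RingHom.FaithfullyFlat
import Mathlib.RingTheory.RingHom.Etale
import Mathlib.RingTheory.RingHom.Finite
import Mathlib.RingTheory.Etale.Descent
import Mathlib.RingTheory.Etale.Pi
import Mathlib.RingTheory.Finiteness.Descent
import Mathlib.LinearAlgebra.TensorProduct.Pi

/-! Sections over affine up-closed subsets. -/

set_option autoImplicit false

open TensorProduct

namespace Groth.Agent.H13SchFin

open SchFin

universe u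

section Family

variable {R : Type u} [CommRing R] {ι : Type u} [Finite ι] (O : ι → Type u) [∀ i, CommRing (O i)]
  [∀ i, Algebra R (O i)] [Module.FaithfullyFlat R ((i : ι) → O i)]

theorem flat_component (i : ι) : Module.Flat R (O i) := by
  classical
  exact Module.Flat.of_retract (LinearMap.single R O i) (LinearMap.proj i)
    (LinearMap.ext fun x => by simp)

theorem bijective_family {M N : Type u} [AddCommGroup M] [AddCommGroup N] [Module R M] [Module R N]
    (f : M →ₗ[R] N) :
    (Function.Injective f ↔ ∀ i, Function.Injective (f.lTensor (O i))) ∧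
    (Function.Surjective f ↔ ∀ i, Function.Surjective (f.lTensor (O i))) := by
  classical
  haveI := Fintype.ofFinite ι
  let eM := TensorProduct.piLeft (R := R) (N := M) (M := O)
  let eN := TensorProduct.piLeft (R := R) (N := N) (M := O)
  have key : ∀ x, eN (f.lTensor ((i : ι) → O i) x) = fun i => f.lTensor (O i) (eM x i) := by
    intro x
    induction x using TensorProduct.induction_on with
    | zero => funext i; simp
    | tmul a m => funext i; simp [eN, eM]
    | add a b ha hb => funext i; simp only [map_add, ha, hb, Pi.add_apply]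
  refine ⟨⟨fun h i => ?_, fun h => ?_⟩, ⟨fun h i => LinearMap.lTensor_surjective _ h, fun h => ?_⟩⟩
  · haveI := flat_component (R := R) O i
    exact Module.Flat.lTensor_preserves_injective_linearMap f h
  · refine (Module.FaithfullyFlat.lTensor_injective_iff_injective R ((i : ι) → O i) f).mp ?_
    intro x y hxy
    refine eM.injective (funext fun i => h i ?_)
    rw [← congr_fun (key x) i, ← congr_fun (key y) i, hxy]
  · refine (Module.FaithfullyFlat.lTensor_surjective_iff_surjective R ((i : ι) → O i) f).mp ?_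
    intro z
    choose w hw using fun i => h i (eN z i)
    refine ⟨eM.symm w, eN.injective (funext fun i => ?_)⟩
    rw [congr_fun (key _) i, eM.apply_symm_apply, hw]

theorem finite_of_family (T : Type u) [AddCommGroup T] [Module R T]
    (h : ∀ i, Module.Finite (O i) (O i ⊗[R] T)) : Module.Finite R T := by
  classical
  haveI := Fintype.ofFinite ι
  have hgen : ∀ i (x : O i ⊗[R] T), ∃ s : Finset T,
      x ∈ Submodule.span (O i) ((fun t => (1 : O i) ⊗ₜ[R] t) '' (s : Set T)) := by
    intro i x
    induction x using TensorProduct.induction_on with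
    | zero => exact ⟨∅, zero_mem _⟩
    | tmul a t =>
      refine ⟨{t}, ?_⟩
      rw [show a ⊗ₜ[R] t = a • ((1 : O i) ⊗ₜ[R] t) by simp [TensorProduct.smul_tmul']]
      exact Submodule.smul_mem _ _ (Submodule.subset_span ⟨t, by simp, rfl⟩)
    | add a b ha hb =>
      obtain ⟨s, hs⟩ := ha
      obtain ⟨s', hs'⟩ := hb
      refine ⟨s ∪ s', add_mem (Submodule.span_mono ?_ hs) (Submodule.span_mono ?_ hs')⟩ <;>
        exact Set.image_mono (by simp)
  choose g hg using fun i => (h i).fg_top
  choose s hs using hgen
  let S : Finset T := Finset.univ.biUnion fun i => (g i).biUnion (s i)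
  refine ⟨⟨S, ?_⟩⟩
  rw [← (Submodule.span R (S : Set T)).range_subtype, LinearMap.range_eq_top,
    (bijective_family O _).2]
  intro i x
  have hx : x ∈ Submodule.span (O i) ((g i : Set (O i ⊗[R] T))) := (hg i).symm ▸ trivial
  induction hx using Submodule.span_induction with
  | mem y hy =>
    have : ∀ z, z ∈ Submodule.span (O i) ((fun t => (1 : O i) ⊗ₜ[R] t) '' (S : Set T)) →
        ∃ w, LinearMap.lTensor (O i) (Submodule.span R (S : Set T)).subtype w = z := by
      intro z hz
      induction hz using Submodule.span_induction with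
      | mem y hy =>
        obtain ⟨t, ht, rfl⟩ := hy
        exact ⟨1 ⊗ₜ ⟨t, Submodule.subset_span ht⟩, rfl⟩
      | zero => exact ⟨0, map_zero _⟩
      | add a b _ _ ha hb =>
        obtain ⟨a', rfl⟩ := ha
        obtain ⟨b', rfl⟩ := hb
        exact ⟨a' + b', map_add _ _ _⟩
      | smul c a _ ha =>
        obtain ⟨a', rfl⟩ := ha
        exact ⟨c • a', ((Submodule.span R (S : Set T)).subtype.baseChange (O i)).map_smul c a'⟩
    refine this y (Submodule.span_mono (Set.image_mono ?_) (hs i y))
    intro t ht
    exact Finset.mem_coe.mpr (Finset.mem_biUnion.mpr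
      ⟨i, Finset.mem_univ _, Finset.mem_biUnion.mpr ⟨y, hy, ht⟩⟩)
  | zero => exact ⟨0, map_zero _⟩
  | add a b _ _ ha hb =>
    obtain ⟨a', rfl⟩ := ha
    obtain ⟨b', rfl⟩ := hb
    exact ⟨a' + b', map_add _ _ _⟩
  | smul c a _ ha =>
    obtain ⟨a', rfl⟩ := ha
    exact ⟨c • a', ((Submodule.span R (S : Set T)).subtype.baseChange (O i)).map_smul c a'⟩

theorem flat_of_family (T : Type u) [AddCommGroup T] [Module R T]
    (h : ∀ i, Module.Flat (O i) (O i ⊗[R] T)) : Module.Flat R T := by
  refine Module.Flat.iff_lTensor_preserves_injective_linearMap.mpr fun N N' _ _ _ _ f hf => ?_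
  rw [(bijective_family O _).1]
  intro i
  haveI := flat_component (R := R) O i
  haveI := h i
  haveI : Module.Flat R (O i ⊗[R] T) := Module.Flat.trans R (O i) _
  have h1 : Function.Injective (f.lTensor (O i ⊗[R] T)) :=
    Module.Flat.lTensor_preserves_injective_linearMap f hf
  have e : ∀ x, (TensorProduct.assoc R (O i) T N').symm ((f.lTensor T).lTensor (O i) x) =
      f.lTensor (O i ⊗[R] T) ((TensorProduct.assoc R (O i) T N).symm x) := by
    intro x
    induction x using TensorProduct.induction_on with
    | zero => simp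
    | add a b ha hb => simp only [map_add, ha, hb]
    | tmul a y =>
      induction y using TensorProduct.induction_on with
      | zero => simp
      | add p q hp hq => simp only [map_add, TensorProduct.tmul_add, hp, hq]
      | tmul t n => simp
  intro x y hxy
  refine (TensorProduct.assoc R (O i) T N).symm.injective (h1 ?_)
  rw [← e, ← e, hxy]

theorem faithfullyFlat_of_family (T : Type u) [CommRing T] [Algebra R T]
    (h : ∀ i, Module.FaithfullyFlat (O i) (O i ⊗[R] T)) : Module.FaithfullyFlat R T := by
  haveI := flat_of_family (R := R) O T fun i => inferInstance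
  refine Module.FaithfullyFlat.of_comap_surjective fun p => ?_
  obtain ⟨r, hr⟩ := PrimeSpectrum.comap_surjective_of_faithfullyFlat
    (A := R) (B := (i : ι) → O i) p
  obtain ⟨⟨i, r'⟩, rfl⟩ := (PrimeSpectrum.sigmaToPi_bijective _).2 r
  obtain ⟨t, ht⟩ := PrimeSpectrum.comap_surjective_of_faithfullyFlat
    (A := O i) (B := O i ⊗[R] T) r'
  refine ⟨PrimeSpectrum.comap (Algebra.TensorProduct.includeRight : T →ₐ[R] O i ⊗[R] T).toRingHom t, ?_⟩
  rw [← hr, ← ht]
  refine PrimeSpectrum.ext (Ideal.ext fun a => ?_)
  show Algebra.TensorProduct.includeRight (algebraMap R T a) ∈ t.asIdeal ↔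
    algebraMap (O i) (O i ⊗[R] T) (algebraMap R (O i) a) ∈ t.asIdeal
  rw [AlgHom.commutes, ← IsScalarTower.algebraMap_apply]

theorem etale_of_family (T : Type u) [CommRing T] [Algebra R T]
    (h : ∀ i, Algebra.Etale (O i) (O i ⊗[R] T)) : Algebra.Etale R T := by
  classical
  haveI := Fintype.ofFinite ι
  letI (i : ι) : Algebra ((j : ι) → O j) (O i) := (Pi.evalRingHom O i).toAlgebra
  haveI (i : ι) : IsLocalization.Away (Pi.single i (1 : O i) : (j : ι) → O j) (O i) := by
    apply IsLocalization.away_of_isIdempotentElem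
    · simp [IsIdempotentElem, ← Pi.single_mul_left]
    · apply RingHom.ker_evalRingHom
    · apply (Pi.evalRingHom O i).surjective
  haveI (i : ι) : Algebra.Etale ((j : ι) → O j) (O i) :=
    Algebra.Etale.of_isLocalizationAway (Pi.single i (1 : O i) : (j : ι) → O j)
  haveI (i : ι) : SMulCommClass R ((j : ι) → O j) (O i) := ⟨fun r b x => by
    rw [Algebra.smul_def, Algebra.smul_def, Algebra.smul_def, Algebra.smul_def]
    exact mul_left_comm _ _ _⟩
  haveI (i : ι) : Algebra.Etale ((j : ι) → O j) (O i ⊗[R] T) :=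
    Algebra.Etale.comp _ (O i) _
  let lin := TensorProduct.piLeft (R := R) (N := T) (M := O)
  letI : Algebra ((i : ι) → O i) ((i : ι) → O i ⊗[R] T) := Pi.algebra ι fun i => O i ⊗[R] T
  let Θ₀ : ((i : ι) → O i) ⊗[R] T →ₐ[R] ((i : ι) → O i ⊗[R] T) :=
    Algebra.TensorProduct.lift
      (AlgHom.pi fun i => (Algebra.TensorProduct.includeLeft : O i →ₐ[R] O i ⊗[R] T).comp
        (Pi.evalAlgHom R O i))
      (AlgHom.pi fun i => (Algebra.TensorProduct.includeRight : T →ₐ[R] O i ⊗[R] T))
      fun _ _ => Commute.all _ _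
  have hΘ₀ : ∀ a t i, Θ₀ (a ⊗ₜ t) i = a i ⊗ₜ[R] t := fun a t i => by
    simp [Θ₀, Algebra.TensorProduct.lift_tmul]
  let Θ : ((i : ι) → O i) ⊗[R] T →ₐ[(i : ι) → O i] ((i : ι) → O i ⊗[R] T) :=
    { Θ₀ with
      commutes' := fun b => funext fun i => (hΘ₀ b 1 i).trans rfl }
  have hΘ : ⇑Θ = ⇑lin := by
    funext x
    induction x using TensorProduct.induction_on with
    | zero => simp
    | add a b ha hb => simp only [map_add, ha, hb]
    | tmul a t =>
      funext i
      refine (hΘ₀ a t i).trans ?_
      simp [lin]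
  haveI : Algebra.Etale ((i : ι) → O i) (((i : ι) → O i) ⊗[R] T) :=
    Algebra.Etale.of_equiv (AlgEquiv.ofBijective Θ (hΘ ▸ lin.bijective)).symm
  exact Algebra.Etale.of_etale_tensorProduct_of_faithfullyFlat (T := (i : ι) → O i)

end Family

/-- the map out of a base change attached to a semilinear additive map -/
noncomputable def liftSMul {R S N P : Type u} [CommRing R] [CommRing S] [Algebra R S]
    [AddCommGroup N] [Module R N] [AddCommGroup P] [Module S P] (f : N →+ P)
    (h : ∀ (r : R) n, f (r • n) = algebraMap R S r • f n) : S ⊗[R] N →+ P :=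
  TensorProduct.liftAddHom ((AddMonoidHom.compHom' f).comp (smulAddHom S P)) fun r s n => by
    show (r • s) • f n = s • f (r • n)
    rw [h, Algebra.smul_def, mul_comm, mul_smul]

@[simp] theorem liftSMul_tmul {R S N P : Type u} [CommRing R] [CommRing S] [Algebra R S]
    [AddCommGroup N] [Module R N] [AddCommGroup P] [Module S P] (f : N →+ P)
    (h : ∀ (r : R) n, f (r • n) = algebraMap R S r • f n) (s : S) (n : N) :
    liftSMul f h (s ⊗ₜ[R] n) = s • f n := rfl

variable {X : RSpace.{u}} (U : Set X.pt)

/-- sections over `U` as global sections of the restriction -/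
def univEquiv : X.sectRing U ≃+* (X.restrict U).sectRing Set.univ where
  toFun s := ⟨fun q => s.1 q.1, fun q q' h => s.2 q.1 q'.1 h⟩
  invFun s := ⟨fun q => s.1 ⟨q, trivial⟩, fun q q' h => s.2 ⟨q, trivial⟩ ⟨q', trivial⟩ h⟩
  left_inv _ := rfl
  right_inv _ := rfl
  map_mul' _ _ := rfl
  map_add' _ _ := rfl

theorem isQcoh_restrict {M : OMod X} (hM : M.IsQcoh) : (M.restrict U).IsQcoh :=
  fun p q h => hM p.1 q.1 h

/-- the counit of an affine subset -/
theorem counit_bijective (hUa : (X.restrict U).IsAffine) (M : OMod X) (hM : M.IsQcoh) (q : U)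
    [Algebra (X.sectRing U) (X.ring q.1)]
    (hq : algebraMap (X.sectRing U) (X.ring q.1) = X.evalRing U q)
    (L : X.ring q.1 ⊗[X.sectRing U] M.sect U →+ M.carrier q.1)
    (hL : ∀ a m, L (a ⊗ₜ m) = a • (m.1 q : M.carrier q.1)) : Function.Bijective L := by
  let R' := (X.restrict U).sectRing Set.univ
  let N' := (M.restrict U).sect Set.univ
  let ρ : X.sectRing U ≃+* R' := univEquiv U
  letI : Algebra R' (X.ring q.1) := ((X.restrict U).evalRing Set.univ ⟨q, trivial⟩).toAlgebra
  let ev : N' →+ M.carrier q.1 :=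
    { toFun := fun m => m.1 ⟨q, trivial⟩, map_zero' := rfl, map_add' := fun _ _ => rfl }
  let L' : X.ring q.1 ⊗[R'] N' →+ M.carrier q.1 := liftSMul ev fun _ _ => rfl
  have hL' : Function.Bijective L' :=
    IsBCAlong.bijective (g := (X.restrict U).evalRing Set.univ ⟨q, trivial⟩) rfl
      (hUa.2.2.1 (M.restrict U) (isQcoh_restrict U hM) q) L' fun a m => rfl
  let down : M.sect U →+ N' :=
    { toFun := fun m => ⟨fun p => m.1 p.1, fun p p' h => m.2 p.1 p'.1 h⟩
      map_zero' := rfl
      map_add' := fun _ _ => rfl }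
  let upN : N' →+ M.sect U :=
    { toFun := fun m => ⟨fun p => m.1 ⟨p, trivial⟩, fun p p' h => m.2 ⟨p, trivial⟩ ⟨p', trivial⟩ h⟩
      map_zero' := rfl
      map_add' := fun _ _ => rfl }
  have hcomp : ∀ r : X.sectRing U, algebraMap (X.sectRing U) (X.ring q.1) r = algebraMap R' (X.ring q.1) (ρ r) :=
    fun r => by rw [hq]; rfl
  let Ψ : X.ring q.1 ⊗[R'] N' →+ X.ring q.1 ⊗[X.sectRing U] M.sect U :=
    TensorProduct.liftAddHom
      { toFun := fun a =>
          { toFun := fun m => a ⊗ₜ upN m
            map_zero' := by rw [map_zero, TensorProduct.tmul_zero]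
            map_add' := fun m m' => by rw [map_add, TensorProduct.tmul_add] }
        map_zero' := by ext m; exact TensorProduct.zero_tmul _ _
        map_add' := fun a b => by ext m; exact TensorProduct.add_tmul _ _ _ }
      (fun r a m => by
        show (algebraMap R' (X.ring q.1) r * a) ⊗ₜ[X.sectRing U] upN m = a ⊗ₜ upN (r • m)
        have : upN (r • m) = ρ.symm r • upN m := rfl
        rw [this, ← TensorProduct.smul_tmul, Algebra.smul_def, hcomp, RingEquiv.apply_symm_apply])
  have hΨ : Function.Surjective Ψ := by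
    intro x
    induction x using TensorProduct.induction_on with
    | zero => exact ⟨0, map_zero _⟩
    | tmul a m => exact ⟨a ⊗ₜ down m, rfl⟩
    | add a b ha hb =>
      obtain ⟨a', rfl⟩ := ha
      obtain ⟨b', rfl⟩ := hb
      exact ⟨a' + b', map_add _ _ _⟩
  have hcomm : ∀ x, L (Ψ x) = L' x := by
    intro x
    induction x using TensorProduct.induction_on with
    | zero => simp
    | add a b ha hb => simp only [map_add, ha, hb]
    | tmul a m => exact hL a (upN m)
  constructor
  · intro x y hxy
    obtain ⟨x, rfl⟩ := hΨ x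
    obtain ⟨y, rfl⟩ := hΨ y
    rw [hcomm, hcomm] at hxy
    rw [hL'.1 hxy]
  · intro z
    obtain ⟨x, rfl⟩ := hL'.2 z
    exact ⟨Ψ x, hcomm x⟩

/-- sections over an affine subset of a minimal open set -/
theorem isBCAlong_resSect (x : X.pt) (hU : U ⊆ X.up x) (hUa : (X.restrict U).IsAffine)
    (hff : Module.FaithfullyFlat (X.sectRing U) ((q : ↥U) → X.ring q.1)) (M : OMod X)
    (hM : M.IsQcoh) : IsBCAlong (X.resSect x U hU) (M.resSect x U hU) := by
  letI : Algebra (X.ring x) (X.sectRing U) := (X.resSect x U hU).toAlgebra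
  letI : Module (X.ring x) (M.sect U) := Module.compHom _ (X.resSect x U hU)
  haveI : IsScalarTower (X.ring x) (X.sectRing U) (M.sect U) :=
    IsScalarTower.of_algebraMap_smul fun _ _ => rfl
  let f : M.carrier x →ₗ[X.ring x] M.sect U :=
    { toFun := M.resSect x U hU
      map_add' := map_add _
      map_smul' := fun r m => (M.resSect x U hU).map_smulₛₗ r m }
  let ψ : X.sectRing U ⊗[X.ring x] M.carrier x →ₗ[X.sectRing U] M.sect U := f.liftBaseChange _
  refine isBCAlong_of_bijective rfl _ ψ.toAddMonoidHom (fun s m => LinearMap.liftBaseChange_tmul _ _ s m) ?_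
  letI (q : U) : Algebra (X.sectRing U) (X.ring q.1) := (X.evalRing U q).toAlgebra
  haveI : Module.FaithfullyFlat (X.sectRing U) ((q : ↥U) → X.ring q.1) := by
    convert! hff using 1
  suffices ∀ q : U, Function.Bijective (ψ.lTensor (X.ring q.1)) by
    exact ⟨(bijective_family (fun q : U => X.ring q.1) ψ).1.mpr fun q => (this q).1,
      (bijective_family (fun q : U => X.ring q.1) ψ).2.mpr fun q => (this q).2⟩
  intro q
  letI : Algebra (X.ring x) (X.ring q.1) := (X.res (hU q.2)).toAlgebra
  haveI : IsScalarTower (X.ring x) (X.sectRing U) (X.ring q.1) :=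
    IsScalarTower.of_algebraMap_eq fun _ => rfl
  let e := TensorProduct.AlgebraTensorModule.cancelBaseChange (X.ring x) (X.sectRing U) (X.ring q.1) (X.ring q.1) (M.carrier x)
  let Lx : X.ring q.1 ⊗[X.ring x] M.carrier x →+ M.carrier q.1 :=
    liftSMul (M.res (hU q.2)).toAddMonoidHom fun r m => (M.res (hU q.2)).map_smulₛₗ r m
  have hLx : Function.Bijective Lx :=
    IsBCAlong.bijective rfl (hM x q.1 (hU q.2)) Lx fun _ _ => rfl
  let Lu : X.ring q.1 ⊗[X.sectRing U] M.sect U →+ M.carrier q.1 :=
    liftSMul (M.evalMod U q).toAddMonoidHom fun r m => (M.evalMod U q).map_smulₛₗ r m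
  have hLu := counit_bijective U hUa M hM q rfl Lu fun _ _ => rfl
  have hc : ∀ z, Lu (ψ.lTensor (X.ring q.1) z) = Lx (e z) := by
    intro z
    induction z using TensorProduct.induction_on with
    | zero => simp
    | add a b ha hb => simp only [map_add, ha, hb]
    | tmul a y =>
      induction y using TensorProduct.induction_on with
      | zero => simp
      | add p r hp hr => simp only [map_add, TensorProduct.tmul_add, hp, hr]
      | tmul s m =>
        show Lu (a ⊗ₜ ψ (s ⊗ₜ m)) = Lx (e (a ⊗ₜ (s ⊗ₜ m)))
        rw [show e (a ⊗ₜ (s ⊗ₜ m)) = (s • a) ⊗ₜ m from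
            TensorProduct.AlgebraTensorModule.cancelBaseChange_tmul ..,
          show ψ (s ⊗ₜ m) = s • f m from LinearMap.liftBaseChange_tmul _ _ s m]
        show a • (s.1 q • M.res (hU q.2) m) = (s.1 q * a) • M.res (hU q.2) m
        rw [← mul_smul, mul_comm]
  constructor
  · intro z w h
    refine e.injective (hLx.1 ?_)
    rw [← hc, ← hc, h]
  · intro y
    obtain ⟨w, hw⟩ := hLx.2 (Lu y)
    refine ⟨e.symm w, hLu.1 ?_⟩
    rw [hc, e.apply_symm_apply, hw]

section Algebra

variable (A : Alg X)

/-- evaluation of algebra sections, from the base change -/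
noncomputable def algCounit (q : U) [Algebra (X.sectRing U) (X.ring q.1)]
    [Algebra (X.sectRing U) (A.total.sectRing U)]
    (hq : algebraMap (X.sectRing U) (X.ring q.1) = X.evalRing U q)
    (hT : algebraMap (X.sectRing U) (A.total.sectRing U) = A.sectMap U) :
    X.ring q.1 ⊗[X.sectRing U] A.total.sectRing U →ₐ[X.ring q.1] A.carrier q.1 :=
  letI : Algebra (X.sectRing U) (A.carrier q.1) :=
    ((algebraMap (X.ring q.1) (A.carrier q.1)).comp (algebraMap (X.sectRing U) (X.ring q.1))).toAlgebra
  haveI : IsScalarTower (X.sectRing U) (X.ring q.1) (A.carrier q.1) :=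
    IsScalarTower.of_algebraMap_eq fun _ => rfl
  Algebra.TensorProduct.lift (Algebra.ofId _ _)
    ({ A.total.evalRing U q with
       commutes' := fun r => by
        show (algebraMap (X.sectRing U) (A.total.sectRing U) r).1 q =
          algebraMap (X.ring q.1) (A.carrier q.1) (algebraMap (X.sectRing U) (X.ring q.1) r)
        rw [hT, hq]
        rfl } : A.total.sectRing U →ₐ[X.sectRing U] A.carrier q.1)
    fun _ _ => Commute.all _ _

theorem algCounit_bijective (hA : A.IsQcoh) (hUa : (X.restrict U).IsAffine) (q : U)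
    [Algebra (X.sectRing U) (X.ring q.1)]
    [Algebra (X.sectRing U) (A.total.sectRing U)]
    (hq : algebraMap (X.sectRing U) (X.ring q.1) = X.evalRing U q)
    (hT : algebraMap (X.sectRing U) (A.total.sectRing U) = A.sectMap U) :
    Function.Bijective (algCounit U A q hq hT) := by
  let j : A.total.sectRing U ≃ₗ[X.sectRing U] A.toMod.sect U :=
    { toFun := fun s => ⟨s.1, fun p p' h => s.2 p p' h⟩
      invFun := fun s => ⟨s.1, fun p p' h => s.2 p p' h⟩
      map_add' := fun _ _ => rfl
      map_smul' := fun r s => Subtype.ext (funext fun p => by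
        show @Eq (A.carrier p.1) ((r • s).1 p) (r.1 p • (show A.carrier p.1 from s.1 p))
        rw [Algebra.smul_def r s, hT, Algebra.smul_def]
        rfl)
      left_inv := fun _ => rfl
      right_inv := fun _ => rfl }
  let T := LinearEquiv.lTensor (X.ring q.1) j
  let L : X.ring q.1 ⊗[X.sectRing U] A.toMod.sect U →+ A.toMod.carrier q.1 :=
    (algCounit U A q hq hT).toLinearMap.toAddMonoidHom.comp T.symm.toLinearMap.toAddMonoidHom
  have hb := counit_bijective U hUa A.toMod hA q hq L fun a m => by
    show algCounit U A q hq hT (T.symm (a ⊗ₜ m)) = a • (m.1 q : A.carrier q.1)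
    simp only [T, LinearEquiv.lTensor_symm_tmul, algCounit, Algebra.TensorProduct.lift_tmul]
    exact (Algebra.smul_def (R := X.ring q.1) (A := A.carrier q.1) a _).symm
  have : ⇑(algCounit U A q hq hT) = L ∘ T := by
    funext z
    exact (congr_arg _ (T.symm_apply_apply z)).symm
  rw [this]
  exact hb.comp T.bijective

end Algebra

end Groth.Agent.H13SchFin
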