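import Groth.Prelude.Def_SchFin
import Mathlib.Algebra.Algebra.Epi

/-! Degree-zero consequences of the schematic condition on finite ringed posets. -/

set_option autoImplicit false

open TensorProduct

namespace Groth.Agent.H13SchFin

open SchFin

universe u

/-- the additive map `S ⊗ M → N` attached to a base change is bijective -/
theorem IsBCAlong.bijective {R S : Type u} [CommRing R] [CommRing S] [inst : Algebra R S]
    {g : R →+* S}
    (hg : algebraMap R S = g) {M N : Type u} [AddCommGroup M] [AddCommGroup N] [Module R M]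
    [Module S N] {f : M →ₛₗ[g] N} (h : IsBCAlong g f) (L : S ⊗[R] M →+ N)
    (hL : ∀ s m, L (s ⊗ₜ m) = s • f m) : Function.Bijective L := by
  have e : inst = g.toAlgebra := Algebra.algebra_ext _ _ fun a => RingHom.congr_fun hg a
  subst e
  letI := g.toAlgebra
  letI : Module R N := Module.compHom N g
  haveI : IsScalarTower R S N := IsScalarTower.of_algebraMap_smul fun _ _ => rfl
  have h' : IsBaseChange S ({ toFun := f, map_add' := f.map_add, map_smul' := f.map_smulₛₗ } : M →ₗ[R] N) := h
  have : ⇑L = h'.equiv := by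
    funext x
    induction x using TensorProduct.induction_on with
    | zero => simp
    | tmul s m => rw [hL, IsBaseChange.equiv_tmul]; rfl
    | add a b ha hb => rw [map_add, map_add, ha, hb]
  rw [this]
  exact h'.equiv.bijective

variable {X : RSpace.{u}} {U : Set X.pt} {R : Type u} [CommRing R] (φ : Coef X U R)

/-- coefficients into sections -/
def toSect : R →+* X.sectRing U where
  toFun a := ⟨fun q => φ.map q a, fun q q' h => φ.compat q q' h a⟩
  map_one' := Subtype.ext (funext fun _ => map_one _)
  map_mul' a b := Subtype.ext (funext fun _ => map_mul _ _ _)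
  map_zero' := Subtype.ext (funext fun _ => map_zero _)
  map_add' a b := Subtype.ext (funext fun _ => map_add _ _ _)

@[simp] theorem toSect_apply (a : R) (q : U) : (toSect φ a).1 q = φ.map q a := rfl

/-- the zero chain at a point -/
def chain0 (q : U) : Chain U 0 :=
  OrderEmbedding.ofMapLEIff (fun _ => q) fun i j => by
    constructor
    · intro _; exact le_of_eq (Subsingleton.elim (α := Fin 1) i j)
    · intro _; exact le_rfl

theorem chain0_eq (σ : Chain U 0) : chain0 (σ 0) = σ := by
  apply RelEmbedding.ext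
  intro i
  obtain rfl : i = 0 := Subsingleton.elim (α := Fin 1) i 0
  rfl

/-- the one-chain of two points -/
def chain1 (q q' : U) (h : q < q') : Chain U 1 :=
  OrderEmbedding.ofStrictMono ![q, q'] (by
    intro i j hij
    fin_cases i <;> fin_cases j <;> simp_all)

theorem diff0_apply (c : Cochain φ X.str 0) (τ : Chain U 1) :
    diff φ X.str 0 c τ = X.res (le_refl (τ 1).1) (c (chain0 (τ 1)))
      - X.res (show (τ 0).1 ≤ (τ 1).1 from τ.monotone (Fin.zero_le _)) (c (chain0 (τ 0))) := by
  change (∑ j : Fin 2, ((-1 : ℤ) ^ (j : ℕ)) • c.faceVal τ j) = _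
  rw [Fin.sum_univ_two]
  have key : ∀ (j : Fin 2) (q : U) (h : q.1 ≤ (τ 1).1), τ.face j = chain0 q →
      c.faceVal τ j = X.res h (c (chain0 q)) := by
    intro j q h he
    have aux : ∀ (σ σ' : Chain U 0) (hσ : (σ (Fin.last 0)).1 ≤ (τ 1).1)
        (hσ' : (σ' (Fin.last 0)).1 ≤ (τ 1).1), σ = σ' →
        X.str.res hσ (c σ) = X.str.res hσ' (c σ') := by
      intro σ σ' hσ hσ' e; subst e; rfl
    exact aux _ _ _ _ he
  rw [key 0 (τ 1) le_rfl (by
      rw [← chain0_eq (τ.face 0)]; rfl),
    key 1 (τ 0) (τ.monotone (Fin.zero_le _)) (by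
      rw [← chain0_eq (τ.face 1)]; rfl)]
  simp [sub_eq_add_neg]
  rfl

/-- a section gives a zero cochain -/
def sectCochain (s : X.sectRing U) : Cochain φ X.str 0 := fun σ => s.1 (σ (Fin.last 0))

theorem sectCochain_mem (s : X.sectRing U) : sectCochain φ s ∈ cocycles φ X.str 0 := by
  refine LinearMap.mem_ker.mpr ?_
  funext τ
  rw [diff0_apply]
  show X.res _ (s.1 (τ 1)) - X.res _ (s.1 (τ 0)) = 0
  rw [s.2 _ _, s.2 _ _]
  exact sub_self _

/-- degree zero cohomology of the rings from sections -/
def sectToH : X.sectRing U →+ H φ X.str 0 where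
  toFun s := H.mk φ X.str 0 ⟨sectCochain φ s, sectCochain_mem φ s⟩
  map_zero' := by
    rw [show (⟨sectCochain φ 0, _⟩ : cocycles φ X.str 0) = 0 from rfl, map_zero]
  map_add' a b := by
    rw [← map_add]; rfl

theorem sectToH_bijective : Function.Bijective (sectToH φ) := by
  constructor
  · rw [injective_iff_map_eq_zero]
    intro s hs
    have h0 := (Submodule.Quotient.mk_eq_zero _).mp hs
    have h1 : sectCochain φ s = 0 := (Submodule.mem_bot R).mp h0
    refine Subtype.ext (funext fun q => ?_)
    exact congr_fun h1 (chain0 q)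
  · intro x
    obtain ⟨⟨c, hc⟩, rfl⟩ := Submodule.Quotient.mk_surjective _ x
    have key : ∀ (q q' : U) (h : q.1 ≤ q'.1), X.res h (c (chain0 q)) = c (chain0 q') := by
      intro q q' h
      rcases (show q ≤ q' from h).eq_or_lt with e | e
      · subst e; exact X.res_self _ _
      · have h0 : diff φ X.str 0 c = 0 := hc
        have := (diff0_apply φ c (chain1 q q' e)).symm.trans (congr_fun h0 (chain1 q q' e))
        have := sub_eq_zero.mp this
        rw [X.res_self] at this
        exact this.symm
    refine ⟨⟨fun q => c (chain0 q), key⟩, ?_⟩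
    refine congr_arg (H.mk φ X.str 0) (Subtype.ext ?_)
    funext σ
    show c (chain0 (σ (Fin.last 0))) = c σ
    have aux : ∀ σ' : Chain U 0, σ' = σ → HEq (c σ') (c σ) := by rintro _ rfl; rfl
    exact eq_of_heq (aux _ (chain0_eq σ))

theorem smul_sectToH (a : R) (s : X.sectRing U) :
    a • sectToH φ s = sectToH φ (toSect φ a * s) := by
  show a • H.mk φ X.str 0 _ = H.mk φ X.str 0 _
  rw [← map_smul]
  rfl

variable {U' : Set X.pt} {R' : Type u} [CommRing R'] {φ' : Coef X U' R'}

/-- restriction of sections -/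
def resS (h : U' ⊆ U) : X.sectRing U →+* X.sectRing U' where
  toFun s := ⟨fun q => s.1 ⟨q.1, h q.2⟩, fun q q' hq => s.2 ⟨q.1, h q.2⟩ ⟨q'.1, h q'.2⟩ hq⟩
  map_one' := rfl
  map_mul' _ _ := rfl
  map_zero' := rfl
  map_add' _ _ := rfl

theorem resH_sectToH (s : Coef.Sub φ φ') (x : X.sectRing U) :
    resH X.str s 0 (sectToH φ x) = sectToH φ' (resS s.le x) := by
  refine congr_arg (H.mk φ' X.str 0) (Subtype.ext ?_)
  rfl

/-- base change in degree zero, read on sections -/
theorem bijective_of_bc {φ : Coef X U R} (s : Coef.Sub φ φ') [Algebra R R']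
    (hs : algebraMap R R' = s.hom) (h : IsBCAlong s.hom (resH X.str s 0))
    {M : Type u} [AddCommGroup M] [Module R M] (e : M ≃+ X.sectRing U)
    (he : ∀ a m, e (a • m) = toSect φ a * e m)
    (L : R' ⊗[R] M →+ X.sectRing U')
    (hL : ∀ a m, L (a ⊗ₜ m) = toSect φ' a * resS s.le (e m)) : Function.Bijective L := by
  let eH : M ≃ₗ[R] H φ X.str 0 :=
    { e.trans (AddEquiv.ofBijective (sectToH φ) (sectToH_bijective φ)) with
      map_smul' := fun a m => by
        show sectToH φ (e (a • m)) = a • sectToH φ (e m)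
        rw [he, smul_sectToH] }
  let L' : R' ⊗[R] H φ X.str 0 →+ H φ' X.str 0 :=
    (sectToH φ').comp (L.comp (LinearEquiv.lTensor R' eH.symm).toAddMonoidHom)
  have hL' : Function.Bijective L' := IsBCAlong.bijective hs h L' fun a x => by
    obtain ⟨m, rfl⟩ := eH.surjective x
    show sectToH φ' (L ((LinearEquiv.lTensor R' eH.symm) (a ⊗ₜ eH m))) = a • resH X.str s 0 (sectToH φ (e m))
    rw [LinearEquiv.lTensor_tmul, eH.symm_apply_apply, hL, resH_sectToH, smul_sectToH]
  have : ⇑L = Function.surjInv (sectToH_bijective φ').2 ∘ L' ∘ (LinearEquiv.lTensor R' eH) := by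
    funext x
    apply (sectToH_bijective φ').1
    simp [L', Function.surjInv_eq, ← LinearMap.comp_apply]
    congr 2
    induction x using TensorProduct.induction_on with
    | zero => simp
    | tmul a m => simp
    | add a b ha hb => simp only [map_add]; rw [← ha, ← hb]
  rw [this]
  refine Function.Bijective.comp ?_ (hL'.comp (LinearEquiv.bijective _))
  exact ⟨Function.injective_surjInv _, fun y => ⟨sectToH φ' y, (sectToH_bijective φ').1 (Function.surjInv_eq _ _)⟩⟩

section Space

variable {s x y : X.pt}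

/-- the ring of a point as sections over the intersection with a smaller up-set -/
def upEquiv (h : s ≤ y) : X.ring y ≃+* X.sectRing (X.up s ∩ X.up y) where
  toFun a := ⟨fun q => X.res q.2.2 a, fun _ _ _ => X.res_comp _ _ a⟩
  invFun t := t.1 ⟨y, h, le_refl y⟩
  left_inv a := X.res_self y a
  right_inv t := Subtype.ext (funext fun q => t.2 ⟨y, h, le_refl y⟩ q (show y ≤ q.1 from q.2.2))
  map_mul' a b := Subtype.ext (funext fun _ => map_mul _ _ _)
  map_add' a b := Subtype.ext (funext fun _ => map_add _ _ _)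

/-- the two restrictions to the sections over the intersection of two minimal open sets -/
def resL (x y : X.pt) : X.ring x →+* X.sectRing (X.up x ∩ X.up y) :=
  X.resSect x _ Set.inter_subset_left

def resR (x y : X.pt) : X.ring y →+* X.sectRing (X.up x ∩ X.up y) :=
  X.resSect y _ Set.inter_subset_right

/-- For `s ≤ x, y` the tensor product of the rings is the ring of sections over `Ux ∩ Uy`. -/
theorem tensor_bijective (hX : X.IsSchematic) (hx : s ≤ x) (hy : s ≤ y)
    [Algebra (X.ring s) (X.ring x)] [Algebra (X.ring s) (X.ring y)]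
    (hax : algebraMap (X.ring s) (X.ring x) = X.res hx)
    (hay : algebraMap (X.ring s) (X.ring y) = X.res hy)
    (L : X.ring x ⊗[X.ring s] X.ring y →+ X.sectRing (X.up x ∩ X.up y))
    (hL : ∀ a b, L (a ⊗ₜ b) = resL x y a * resR x y b) : Function.Bijective L := by
  refine bijective_of_bc (U' := X.up x ∩ X.up y) ((Hom.id X).subSrc hx y) hax
    (hX.2.2 0 s x hx y y le_rfl).1 (upEquiv hy).toAddEquiv ?_ L ?_
  · intro a m
    refine Subtype.ext (funext fun q => ?_)
    change (X.res (show y ≤ q.1 from q.2.2) (a • m) : X.ring q.1) =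
      (X.res (show s ≤ q.1 from q.2.1) a : X.ring q.1) * (X.res (show y ≤ q.1 from q.2.2) m : X.ring q.1)
    rw [Algebra.smul_def, map_mul, hay, X.res_comp]
  · intro a m
    rw [hL]
    rfl

/-- Restrictions are epimorphisms of rings. -/
theorem isEpi (hX : X.IsSchematic) (h : x ≤ y) [Algebra (X.ring x) (X.ring y)]
    (ha : algebraMap (X.ring x) (X.ring y) = X.res h) : Algebra.IsEpi (X.ring x) (X.ring y) := by
  let L : X.ring y ⊗[X.ring x] X.ring y →+ X.sectRing (X.up y ∩ X.up y) :=
    (upEquiv (le_refl y)).toAddEquiv.toAddMonoidHom.comp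
      (Algebra.TensorProduct.lmul' (X.ring x)).toRingHom.toAddMonoidHom
  have hL := tensor_bijective hX h h ha ha L fun a b => by
    show upEquiv (le_refl y) (Algebra.TensorProduct.lmul' (X.ring x) (a ⊗ₜ[X.ring x] b)) = _
    rw [Algebra.TensorProduct.lmul'_apply_tmul, map_mul]
    rfl
  refine (Algebra.isEpi_iff_forall_one_tmul_eq _ _).mpr fun a => hL.1 ?_
  simp [L]

theorem ringHom_ext_of_comp_res (hX : X.IsSchematic) (h : x ≤ y) {T : Type*} [CommRing T]
    (g₁ g₂ : X.ring y →+* T) (hg : g₁.comp (X.res h) = g₂.comp (X.res h)) : g₁ = g₂ := by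
  letI : Algebra (X.ring x) (X.ring y) := (X.res h).toAlgebra
  letI : Algebra (X.ring x) T := (g₁.comp (X.res h)).toAlgebra
  haveI := isEpi hX h rfl
  let f₁ : X.ring y →ₐ[X.ring x] T := ⟨g₁, fun _ => rfl⟩
  let f₂ : X.ring y →ₐ[X.ring x] T := ⟨g₂, fun a => (RingHom.congr_fun hg a).symm⟩
  ext a
  have := congr_arg (Algebra.TensorProduct.lift f₁ f₂ fun _ _ => Commute.all _ _)
    ((Algebra.isEpi_iff_forall_one_tmul_eq _ _).mp inferInstance a)
  simpa [f₁, f₂] using this.symm

theorem flat (hX : X.IsSchematic) (h : x ≤ y) : (X.res h).Flat := hX.1.2 x y h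

theorem isNoetherian (hX : X.IsSchematic) (x : X.pt) : IsNoetherianRing (X.ring x) := hX.1.1 x

end Space

end Groth.Agent.H13SchFin
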