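import Groth.Agent.H13SchFin.FEt
import Mathlib.RingTheory.Finiteness.Prod
import Mathlib.CategoryTheory.Limits.Shapes.Pullback.HasPullback
import Mathlib.CategoryTheory.Limits.Shapes.BinaryProducts

/-! The category of étale covers of a finite space. -/

set_option autoImplicit false

open TensorProduct CategoryTheory CategoryTheory.Limits

namespace Groth.Agent.H13SchFin

open SchFin

universe u

variable {X : RSpace.{u}}

theorem fet_ext {A B : FEt X} {f g : A ⟶ B} (h : ∀ (p : X.pt) (a : A.obj.carrier p), f.hom.app p a = g.hom.app p a) :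
    f = g :=
  InducedCategory.hom_ext (Alg.hom_ext _ _ fun p => AlgHom.ext (h p))

theorem mono_of_injective {A B : FEt X} (f : A ⟶ B)
    (hf : ∀ p : X.pt, Function.Injective (f.hom.app p)) : Mono f :=
  ⟨fun g h e => fet_ext fun p a => hf p (congr_arg (fun t : _ ⟶ B => t.hom.app p a) e)⟩

theorem epi_of_surjective {A B : FEt X} (f : A ⟶ B)
    (hf : ∀ p : X.pt, Function.Surjective (f.hom.app p)) : Epi f :=
  ⟨fun g h e => fet_ext fun p b => by
    obtain ⟨a, rfl⟩ := hf p b
    exact congr_arg (fun t : A ⟶ _ => t.hom.app p a) e⟩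

/-- the unit cover -/
def strFEt (X : RSpace.{u}) : FEt X := ⟨Alg.str X, str_isEtCover X⟩

/-- the map out of the unit cover -/
def fromStr (A : FEt X) : strFEt X ⟶ A :=
  InducedCategory.homMk ⟨fun p => Algebra.ofId _ _, fun h b => A.obj.res_algebraMap h b⟩

/-- the unit cover is initial -/
def strIsInitial (X : RSpace.{u}) : IsInitial (strFEt X) :=
  IsInitial.ofUniqueHom fromStr fun _ g => fet_ext fun p a => (g.hom.app p).commutes a

theorem zeroAlg_isEtCover (X : RSpace.{u}) : (zeroAlg X).IsEtCover := by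
  refine ⟨zeroAlg_isQcoh X, fun p => ?_⟩
  haveI : Subsingleton ((zeroAlg X).carrier p) := inferInstanceAs (Subsingleton PUnit)
  exact ⟨inferInstance, etale_of_subsingleton _ _⟩

/-- the zero cover -/
def zeroFEt (X : RSpace.{u}) : FEt X := ⟨zeroAlg X, zeroAlg_isEtCover X⟩

/-- the map to the zero cover -/
def toZero (A : FEt X) : A ⟶ zeroFEt X :=
  InducedCategory.homMk
    ⟨fun p => { toFun := fun _ => PUnit.unit, map_one' := rfl, map_mul' := fun _ _ => rfl,
                map_zero' := rfl, map_add' := fun _ _ => rfl, commutes' := fun _ => rfl },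
     fun _ _ => rfl⟩

/-- the zero cover is terminal -/
def zeroIsTerminal (X : RSpace.{u}) : IsTerminal (zeroFEt X) :=
  IsTerminal.ofUniqueHom toZero fun _ _ => fet_ext fun _ _ => rfl

theorem prod_isEtCover (A B : FEt X) : (prodAlg A.obj B.obj).IsEtCover := by
  refine ⟨prodAlg_isQcoh _ _ A.property.1 B.property.1, fun p => ?_⟩
  haveI := (A.property.2 p).1
  haveI := (A.property.2 p).2
  haveI := (B.property.2 p).1
  haveI := (B.property.2 p).2
  exact ⟨inferInstanceAs (Module.Finite (X.ring p) (A.obj.carrier p × B.obj.carrier p)),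
    (etale_prod : Algebra.Etale (X.ring p) (A.obj.carrier p × B.obj.carrier p))⟩

/-- the product cover -/
def prodFEt (A B : FEt X) : FEt X := ⟨prodAlg A.obj B.obj, prod_isEtCover A B⟩

/-- first projection -/
def prodFst (A B : FEt X) : prodFEt A B ⟶ A :=
  InducedCategory.homMk ⟨fun p => AlgHom.fst _ _ _, fun _ _ => rfl⟩

/-- second projection -/
def prodSnd (A B : FEt X) : prodFEt A B ⟶ B :=
  InducedCategory.homMk ⟨fun p => AlgHom.snd _ _ _, fun _ _ => rfl⟩

/-- pairing into the product -/
def prodLift {C A B : FEt X} (f : C ⟶ A) (g : C ⟶ B) : C ⟶ prodFEt A B :=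
  InducedCategory.homMk ⟨fun p => (f.hom.app p).prod (g.hom.app p),
    fun h b => Prod.ext (f.hom.compat h b) (g.hom.compat h b)⟩

/-- the product cover is a product -/
def prodIsLimit (A B : FEt X) : IsLimit (BinaryFan.mk (prodFst A B) (prodSnd A B)) :=
  BinaryFan.IsLimit.mk _ (fun f g => prodLift f g) (fun _ _ => fet_ext fun _ _ => rfl)
    (fun _ _ => fet_ext fun _ _ => rfl)
    (fun f g m h₁ h₂ => fet_ext fun p c => Prod.ext
      (congr_arg (fun t : _ ⟶ A => t.hom.app p c) h₁) (congr_arg (fun t : _ ⟶ B => t.hom.app p c) h₂))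

theorem hasTerminal_and_hasBinaryProducts (X : RSpace.{u}) :
    HasTerminal (FEt X) ∧ HasBinaryProducts (FEt X) := by
  refine ⟨(zeroIsTerminal X).hasTerminal, ?_⟩
  haveI : ∀ {A B : FEt X}, HasLimit (pair A B) := fun {A B} => ⟨⟨⟨_, prodIsLimit A B⟩⟩⟩
  exact hasBinaryProducts_of_hasLimit_pair _

theorem tensor_isEtCover (A B : FEt X) : (tensorAlg A.obj B.obj).IsEtCover := by
  refine ⟨tensorAlg_isQcoh _ _ A.property.1 B.property.1, fun p => ?_⟩
  haveI := (A.property.2 p).1
  haveI := (A.property.2 p).2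
  haveI := (B.property.2 p).1
  haveI := (B.property.2 p).2
  haveI : Algebra.Etale (X.ring p) (A.obj.carrier p ⊗[X.ring p] B.obj.carrier p) :=
    Algebra.Etale.comp (X.ring p) (A.obj.carrier p) _
  exact ⟨inferInstanceAs (Module.Finite (X.ring p) (A.obj.carrier p ⊗[X.ring p] B.obj.carrier p)), this⟩

/-- the tensor product cover -/
noncomputable def tensorFEt (A B : FEt X) : FEt X := ⟨tensorAlg A.obj B.obj, tensor_isEtCover A B⟩

/-- left inclusion -/
noncomputable def tensorL (A B : FEt X) : A ⟶ tensorFEt A B :=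
  InducedCategory.homMk ⟨fun p => Algebra.TensorProduct.includeLeft, fun h a => by
    show tensorRes A.obj B.obj h (a ⊗ₜ 1) = _
    rw [tensorRes_tmul, map_one]
    rfl⟩

/-- right inclusion -/
noncomputable def tensorR (A B : FEt X) : B ⟶ tensorFEt A B :=
  InducedCategory.homMk ⟨fun p => Algebra.TensorProduct.includeRight, fun h b => by
    show tensorRes A.obj B.obj h (1 ⊗ₜ b) = _
    rw [tensorRes_tmul, map_one]
    rfl⟩

/-- map out of the tensor product -/
noncomputable def tensorDesc {A B T : FEt X} (f : A ⟶ T) (g : B ⟶ T) : tensorFEt A B ⟶ T :=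
  InducedCategory.homMk
    ⟨fun p => Algebra.TensorProduct.lift (f.hom.app p) (g.hom.app p) fun _ _ => Commute.all _ _,
     fun {p q} h z => by
      show T.obj.res h ((Algebra.TensorProduct.lift (f.hom.app p) (g.hom.app p) fun _ _ => Commute.all _ _) z) =
        (Algebra.TensorProduct.lift (f.hom.app q) (g.hom.app q) fun _ _ => Commute.all _ _) (tensorRes A.obj B.obj h z)
      induction z using TensorProduct.induction_on with
      | zero => simp only [map_zero]
      | tmul a b =>
        rw [tensorRes_tmul, Algebra.TensorProduct.lift_tmul, Algebra.TensorProduct.lift_tmul, map_mul,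
          f.hom.compat, g.hom.compat]
      | add a b ha hb => simp only [map_add, ha, hb]⟩

theorem tensorL_desc {A B T : FEt X} (f : A ⟶ T) (g : B ⟶ T) :
    tensorL A B ≫ tensorDesc f g = f :=
  fet_ext fun p a => by
    show (Algebra.TensorProduct.lift (f.hom.app p) (g.hom.app p) fun _ _ => Commute.all _ _) (a ⊗ₜ 1) = _
    rw [Algebra.TensorProduct.lift_tmul, map_one, mul_one]

theorem tensorR_desc {A B T : FEt X} (f : A ⟶ T) (g : B ⟶ T) :
    tensorR A B ≫ tensorDesc f g = g :=
  fet_ext fun p a => by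
    show (Algebra.TensorProduct.lift (f.hom.app p) (g.hom.app p) fun _ _ => Commute.all _ _) (1 ⊗ₜ a) = _
    rw [Algebra.TensorProduct.lift_tmul, map_one, one_mul]

theorem tensor_hom_ext {A B T : FEt X} {m m' : tensorFEt A B ⟶ T}
    (h₁ : tensorL A B ≫ m = tensorL A B ≫ m') (h₂ : tensorR A B ≫ m = tensorR A B ≫ m') : m = m' := by
  refine InducedCategory.hom_ext (Alg.hom_ext _ _ fun p => ?_)
  refine Algebra.TensorProduct.ext ?_ ?_
  · exact AlgHom.ext fun a => congr_arg (fun t : A ⟶ T => t.hom.app p a) h₁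
  · exact AlgHom.ext fun a => congr_arg (fun t : B ⟶ T => t.hom.app p a) h₂

/-- the projection to a quotient cover -/
theorem exists_quotient (A : FEt X) (e : ∀ p, A.obj.carrier p) (he : ∀ p, IsIdempotentElem (e p))
    (hres : ∀ {p q : X.pt} (h : p ≤ q), A.obj.res h (e p) = e q) :
    ∃ (Q : FEt X) (π : A ⟶ Q), (∀ p, Function.Surjective (π.hom.app p)) ∧
      ∀ p, RingHom.ker (π.hom.app p).toRingHom = Ideal.span {e p} := by
  obtain ⟨hI, hQ⟩ := quot_isEtCover A e he hres
  exact ⟨⟨_, hQ⟩, InducedCategory.homMk (quotπ _ _ hI), fun p => Ideal.Quotient.mk_surjective,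
    fun p => Ideal.mk_ker⟩

theorem exists_factor_of_surjective {A Q T : FEt X} (π : A ⟶ Q)
    (hπ : ∀ p, Function.Surjective (π.hom.app p)) (f : A ⟶ T)
    (hk : ∀ p, RingHom.ker (π.hom.app p).toRingHom ≤ RingHom.ker (f.hom.app p).toRingHom) :
    ∃ g : Q ⟶ T, π ≫ g = f := by
  refine ⟨InducedCategory.homMk ⟨fun p => AlgHom.liftOfSurjective (π.hom.app p) (hπ p) (f.hom.app p) (hk p),
    fun {p q} h b => ?_⟩, fet_ext fun p a => AlgHom.liftOfSurjective_apply (π.hom.app p) (hπ p) (f.hom.app p) (hk p) a⟩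
  obtain ⟨a, rfl⟩ := hπ p b
  rw [AlgHom.liftOfSurjective_apply, π.hom.compat, f.hom.compat]
  exact (AlgHom.liftOfSurjective_apply _ _ _ _ _).symm

theorem exists_factor (hX : X.IsFinSp) {A B : FEt X} (f : A ⟶ B) :
    ∃ (Q : FEt X) (g : A ⟶ Q) (h : Q ⟶ B), g ≫ h = f ∧
      (∀ p : X.pt, Function.Surjective (g.hom.app p)) ∧
      ∀ p : X.pt, Function.Injective (h.hom.app p) := by
  obtain ⟨e, he, hk, hres⟩ := exists_idempotents hX f
  obtain ⟨Q, π, hπ, hkπ⟩ := exists_quotient A e he hres
  obtain ⟨g, hg⟩ := exists_factor_of_surjective π hπ f fun p => ((hkπ p).trans (hk p).symm).le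
  refine ⟨Q, π, g, hg, hπ, fun p => ?_⟩
  rw [injective_iff_map_eq_zero]
  intro x hx
  obtain ⟨a, rfl⟩ := hπ p x
  have : a ∈ RingHom.ker (f.hom.app p).toRingHom :=
    (congr_arg (fun t : A ⟶ B => t.hom.app p a) hg).symm.trans hx
  rw [hk p, ← hkπ p] at this
  exact this

theorem exists_pushout {C A B : FEt X} (f : C ⟶ A) (g : C ⟶ B) :
    ∃ (Q : FEt X) (π : tensorFEt A B ⟶ Q), (∀ p, Function.Surjective (π.hom.app p)) ∧
      (∀ p, RingHom.ker (π.hom.app p).toRingHom = Ideal.span (Set.range fun c : C.obj.carrier p =>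
          ((tensorL A B).hom.app p (f.hom.app p c) - (tensorR A B).hom.app p (g.hom.app p c)))) ∧
      ∃ w : f ≫ tensorL A B ≫ π = g ≫ tensorR A B ≫ π, Nonempty (IsColimit (PushoutCocone.mk _ _ w)) := by
  have hex : ∀ p, ∃ e : (tensorFEt A B).obj.carrier p, IsIdempotentElem e ∧
      Ideal.span {e} = Ideal.span (Set.range fun c : C.obj.carrier p =>
        ((tensorL A B).hom.app p (f.hom.app p c) - (tensorR A B).hom.app p (g.hom.app p c))) := by
    intro p
    haveI := (C.property.2 p).2
    exact exists_idempotent_pushout (f.hom.app p) (g.hom.app p)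
  choose e he hsp using hex
  have hmem : ∀ (p : X.pt) (c : C.obj.carrier p),
      (tensorL A B).hom.app p (f.hom.app p c) - (tensorR A B).hom.app p (g.hom.app p c) ∈ Ideal.span {e p} :=
    fun p c => (hsp p).symm ▸ Ideal.subset_span ⟨c, rfl⟩
  have hres : ∀ {p q : X.pt} (h : p ≤ q), (tensorFEt A B).obj.res h (e p) = e q := by
    intro p q h
    refine idempotent_unique ((he p).map _) (he q) (le_antisymm ?_ ?_)
    · rw [← Set.image_singleton, ← Ideal.map_span, hsp p, Ideal.map_span, Ideal.span_le]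
      rintro _ ⟨_, ⟨c, rfl⟩, rfl⟩
      rw [map_sub, (tensorL A B).hom.compat, (tensorR A B).hom.compat, f.hom.compat, g.hom.compat]
      exact hmem q _
    · rw [hsp q, Ideal.span_le, ← Set.image_singleton, ← Ideal.map_span, hsp p]
      rintro _ ⟨c, rfl⟩
      letI := resAlg h
      have hc : c ∈ Submodule.span (X.ring q) (Set.range (C.obj.res h).toAddMonoidHom) :=
        mem_span_of_bijective (C.obj.res h).toAddMonoidHom (res_smul C.obj h)
          ((qcoh_iff _).mp C.property.1 p q h) c
      induction hc using Submodule.span_induction with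
      | mem c hc =>
        obtain ⟨c, rfl⟩ := hc
        have hm : (tensorL A B).hom.app p (f.hom.app p c) - (tensorR A B).hom.app p (g.hom.app p c) ∈
            Ideal.span (Set.range fun c : C.obj.carrier p =>
              ((tensorL A B).hom.app p (f.hom.app p c) - (tensorR A B).hom.app p (g.hom.app p c))) :=
          Ideal.subset_span ⟨c, rfl⟩
        have := Ideal.mem_map_of_mem ((tensorFEt A B).obj.res h) hm
        rw [map_sub, (tensorL A B).hom.compat, (tensorR A B).hom.compat, f.hom.compat, g.hom.compat] at this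
        exact this
      | zero => simp
      | add a b _ _ ha hb =>
        simp only [map_add, add_sub_add_comm]
        exact add_mem ha hb
      | smul s a _ ha =>
        simp only [map_smul, ← smul_sub]
        exact Submodule.smul_of_tower_mem _ s ha
  obtain ⟨Q, π, hπ, hkπ⟩ := exists_quotient (tensorFEt A B) e he hres
  have hcomm : f ≫ tensorL A B ≫ π = g ≫ tensorR A B ≫ π := fet_ext fun p c => by
    have h0 : (tensorL A B).hom.app p (f.hom.app p c) - (tensorR A B).hom.app p (g.hom.app p c) ∈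
        RingHom.ker (π.hom.app p).toRingHom := (hkπ p).symm ▸ hmem p c
    have h1 := RingHom.mem_ker.mp h0
    rw [map_sub, sub_eq_zero] at h1
    exact h1
  refine ⟨Q, π, hπ, fun p => (hkπ p).trans (hsp p), hcomm, ⟨PushoutCocone.IsColimit.mk hcomm
    (fun s => (exists_factor_of_surjective π hπ (tensorDesc s.inl s.inr) ?_).choose) ?_ ?_ ?_⟩⟩
  · intro p
    rw [hkπ p, hsp p, Ideal.span_le]
    rintro _ ⟨c, rfl⟩
    show (tensorDesc s.inl s.inr).hom.app p _ = 0
    rw [map_sub, sub_eq_zero]
    show (Algebra.TensorProduct.lift (s.inl.hom.app p) (s.inr.hom.app p) fun _ _ => Commute.all _ _)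
        (f.hom.app p c ⊗ₜ 1) =
      (Algebra.TensorProduct.lift (s.inl.hom.app p) (s.inr.hom.app p) fun _ _ => Commute.all _ _)
        (1 ⊗ₜ g.hom.app p c)
    rw [Algebra.TensorProduct.lift_tmul, Algebra.TensorProduct.lift_tmul, map_one, map_one, mul_one,
      one_mul]
    exact congr_arg (fun t : C ⟶ _ => t.hom.app p c) s.condition
  · intro s
    rw [Category.assoc, Exists.choose_spec (p := fun g => π ≫ g = tensorDesc s.inl s.inr)]
    exact tensorL_desc _ _
  · intro s
    rw [Category.assoc, Exists.choose_spec (p := fun g => π ≫ g = tensorDesc s.inl s.inr)]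
    exact tensorR_desc _ _
  · intro s m h₁ h₂
    haveI := epi_of_surjective π hπ
    rw [← cancel_epi π, Exists.choose_spec (p := fun g => π ≫ g = tensorDesc s.inl s.inr)]
    refine tensor_hom_ext ?_ ?_
    · rw [← Category.assoc, h₁]
      exact (tensorL_desc _ _).symm
    · rw [← Category.assoc, h₂]
      exact (tensorR_desc _ _).symm

theorem hasInitial_and_hasPushouts (X : RSpace.{u}) :
    HasInitial (FEt X) ∧ HasPushouts (FEt X) := by
  refine ⟨(strIsInitial X).hasInitial, ?_⟩
  haveI : ∀ {C A B : FEt X} {f : C ⟶ A} {g : C ⟶ B}, HasColimit (span f g) := by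
    intro C A B f g
    obtain ⟨Q, π, -, -, w, ⟨hc⟩⟩ := exists_pushout f g
    exact ⟨⟨⟨_, hc⟩⟩⟩
  exact hasPushouts_of_hasColimit_span _

theorem exists_directFactor (hX : X.IsFinSp) {A B : FEt X} (f : A ⟶ B)
    (hf : ∀ p : X.pt, Function.Surjective (f.hom.app p)) :
    ∃ (D : FEt X) (π : A ⟶ D), (∀ p, Function.Surjective (π.hom.app p)) ∧
      Nonempty (IsLimit (BinaryFan.mk f π)) := by
  obtain ⟨e, he, hk, hres⟩ := exists_idempotents hX f
  obtain ⟨D, π, hπ, hkπ⟩ := exists_quotient A (fun p => 1 - e p) (fun p => (he p).one_sub)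
    (fun h => by rw [map_sub, map_one, hres h])
  have hfe : ∀ p, f.hom.app p (e p) = 0 := fun p =>
    show e p ∈ RingHom.ker (f.hom.app p).toRingHom from (hk p).symm ▸ Ideal.mem_span_singleton_self _
  have hπe : ∀ p, π.hom.app p (1 - e p) = 0 := fun p =>
    show 1 - e p ∈ RingHom.ker (π.hom.app p).toRingHom from (hkπ p).symm ▸ Ideal.mem_span_singleton_self _
  let φ : A ⟶ prodFEt B D := prodLift f π
  have hbij : ∀ p, Function.Bijective (φ.hom.app p) := by
    intro p
    constructor
    · rw [injective_iff_map_eq_zero]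
      intro a ha
      have h1 : a ∈ RingHom.ker (f.hom.app p).toRingHom := congr_arg Prod.fst ha
      have h2 : a ∈ RingHom.ker (π.hom.app p).toRingHom := congr_arg Prod.snd ha
      rw [hk p] at h1
      rw [hkπ p] at h2
      obtain ⟨c, rfl⟩ := Ideal.mem_span_singleton'.mp h1
      obtain ⟨d, hd⟩ := Ideal.mem_span_singleton'.mp h2
      calc c * e p = (c * e p) * e p := by rw [mul_assoc, (he p).eq]
        _ = d * (1 - e p) * e p := by rw [hd]
        _ = 0 := by rw [mul_assoc, sub_mul, one_mul, (he p).eq, sub_self, mul_zero]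
    · rintro ⟨b, d⟩
      obtain ⟨a, rfl⟩ := hf p b
      obtain ⟨a', rfl⟩ := hπ p d
      refine ⟨(1 - e p) * a + e p * a', Prod.ext ?_ ?_⟩
      · show f.hom.app p _ = _
        simp [map_add, map_mul, map_sub, hfe p]
      · show π.hom.app p _ = _
        have : π.hom.app p (e p) = 1 := by
          have := hπe p
          rw [map_sub, map_one, sub_eq_zero] at this
          exact this.symm
        simp [map_add, map_mul, map_sub, this]
  refine ⟨D, π, hπ, ⟨?_⟩⟩
  let ψ : prodFEt B D ⟶ A :=
    InducedCategory.homMk ⟨fun p => (AlgEquiv.ofBijective _ (hbij p)).symm.toAlgHom, fun {p q} h x => by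
      obtain ⟨a, rfl⟩ := (hbij p).2 x
      apply (hbij q).1
      rw [← φ.hom.compat]
      show (prodAlg B.obj D.obj).res h (φ.hom.app p ((AlgEquiv.ofBijective _ (hbij p)).symm ((AlgEquiv.ofBijective _ (hbij p)) a))) =
        (AlgEquiv.ofBijective _ (hbij q)) ((AlgEquiv.ofBijective _ (hbij q)).symm _)
      rw [AlgEquiv.symm_apply_apply, AlgEquiv.apply_symm_apply]
      rfl⟩
  have hφψ : φ ≫ ψ = 𝟙 A := fet_ext fun p a => (AlgEquiv.ofBijective _ (hbij p)).symm_apply_apply a
  have hψφ : ψ ≫ φ = 𝟙 _ := fet_ext fun p a => (AlgEquiv.ofBijective _ (hbij p)).apply_symm_apply a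
  exact (prodIsLimit B D).ofIsoLimit (BinaryFan.ext (Iso.mk ψ φ hψφ hφψ)
    (by rw [BinaryFan.mk_fst, BinaryFan.mk_fst, show f = φ ≫ prodFst B D from fet_ext fun _ _ => rfl]; exact ((Category.assoc _ _ _).symm.trans ((congr_arg (· ≫ prodFst B D) hψφ).trans (Category.id_comp _))).symm)
    (by rw [BinaryFan.mk_snd, BinaryFan.mk_snd, show π = φ ≫ prodSnd B D from fet_ext fun _ _ => rfl]; exact ((Category.assoc _ _ _).symm.trans ((congr_arg (· ≫ prodSnd B D) hψφ).trans (Category.id_comp _))).symm))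

theorem injective_of_mono (hX : X.IsFinSp) {A B : FEt X} (f : A ⟶ B) [Mono f] (p : X.pt) :
    Function.Injective (f.hom.app p) := by
  obtain ⟨Q, g, h, hgh, hg, hh⟩ := exists_factor hX f
  obtain ⟨D, π, hπ, ⟨hlim⟩⟩ := exists_directFactor hX g hg
  obtain ⟨u, hu, hu'⟩ := BinaryFan.IsLimit.lift' hlim (prodFst Q (prodFEt D D))
    (prodSnd Q (prodFEt D D) ≫ prodFst D D)
  obtain ⟨v, hv, hv'⟩ := BinaryFan.IsLimit.lift' hlim (prodFst Q (prodFEt D D))
    (prodSnd Q (prodFEt D D) ≫ prodSnd D D)
  simp only [BinaryFan.mk_fst, BinaryFan.mk_snd] at hu hu' hv hv'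
  change prodFEt Q (prodFEt D D) ⟶ A at u v
  have huv : u = v := by
    rw [← cancel_mono f, ← hgh]
    exact (Category.assoc _ _ _).symm.trans ((congr_arg (· ≫ h) (hu.trans hv.symm)).trans (Category.assoc _ _ _))
  have hD : ∀ d : D.obj.carrier p, d = 0 := by
    intro d
    have h1 := congr_arg (fun t : _ ⟶ D => t.hom.app p ((0, d, 0) : Q.obj.carrier p × D.obj.carrier p × D.obj.carrier p))
      (hu'.symm.trans ((congr_arg (· ≫ π) huv).trans hv'))
    exact h1
  have hg' : Function.Injective (g.hom.app p) := by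
    intro a a' haa
    obtain ⟨t, ht, ht'⟩ := BinaryFan.IsLimit.lift' hlim g π
    simp only [BinaryFan.mk_fst, BinaryFan.mk_snd] at ht ht'
    let φ := prodLift g π
    have hinv : φ ≫ (BinaryFan.IsLimit.lift' hlim (prodFst Q D) (prodSnd Q D)).1 = 𝟙 A := by
      apply BinaryFan.IsLimit.hom_ext hlim
      · rw [Category.assoc, (BinaryFan.IsLimit.lift' hlim (prodFst Q D) (prodSnd Q D)).2.1]
        exact fet_ext fun _ _ => rfl
      · rw [Category.assoc, (BinaryFan.IsLimit.lift' hlim (prodFst Q D) (prodSnd Q D)).2.2]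
        exact fet_ext fun _ _ => rfl
    have hφ : φ.hom.app p a = φ.hom.app p a' :=
      Prod.ext haa ((hD _).trans (hD _).symm)
    have e1 := congr_arg (fun t : A ⟶ A => t.hom.app p a) hinv
    have e2 := congr_arg (fun t : A ⟶ A => t.hom.app p a') hinv
    exact (e1.symm.trans (congr_arg ((BinaryFan.IsLimit.lift' hlim (prodFst Q D) (prodSnd Q D)).1.hom.app p) hφ)).trans e2
  rw [← hgh]
  exact (hh p).comp hg'

end Groth.Agent.H13SchFin
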