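import Groth.Agent.H13SchFin.Basic
import Mathlib.RingTheory.Spectrum.Prime.Topology

/-! Connectedness of finite ringed posets. -/

set_option autoImplicit false

namespace Groth.Agent.H13SchFin

open SchFin PrimeSpectrum

universe u

theorem idempotent_eq {R : Type u} [CommRing R] [ConnectedSpace (PrimeSpectrum R)] {e : R}
    (he : IsIdempotentElem e) : e = 0 ∨ e = 1 := by
  rcases _root_.isClopen_iff.mp (isClopen_iff_zeroLocus.mpr ⟨e, he, rfl⟩) with h | h
  · right
    have hu : IsUnit e := by
      by_contra hne
      obtain ⟨m, hm, hem⟩ := Ideal.exists_le_maximal _ (show Ideal.span {e} ≠ ⊤ from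
        fun ht => hne (Ideal.span_singleton_eq_top.mp ht))
      have : (⟨m, hm.isPrime⟩ : PrimeSpectrum R) ∈ zeroLocus {e} := by
        intro x hx
        rw [Set.mem_singleton_iff.mp hx]
        exact hem (Ideal.mem_span_singleton_self e)
      rw [h] at this
      exact this
    exact (IsIdempotentElem.iff_eq_one_of_isUnit hu).mp he
  · left
    have hn : IsNilpotent e := by
      rw [nilpotent_iff_mem_prime]
      intro J hJ
      have : (⟨J, hJ⟩ : PrimeSpectrum R) ∈ zeroLocus {e} := h ▸ trivial
      exact this rfl
    exact IsIdempotentElem.eq_zero_of_isNilpotent he hn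

theorem connectedSpace_of_idempotent {R : Type u} [CommRing R] [Nontrivial R]
    (h : ∀ e : R, IsIdempotentElem e → e = 0 ∨ e = 1) : ConnectedSpace (PrimeSpectrum R) := by
  haveI : PreconnectedSpace (PrimeSpectrum R) := by
    refine preconnectedSpace_iff_clopen.mpr fun s hs => ?_
    obtain ⟨e, he, rfl⟩ := isClopen_iff_zeroLocus.mp hs
    rcases h e he with rfl | rfl
    · exact Or.inr (zeroLocus_singleton_zero)
    · exact Or.inl (zeroLocus_singleton_one)
  exact { toNonempty := inferInstance }

variable {X : RSpace.{u}}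

theorem nontrivial_of_pw (hp : X.IsPwConnected) (p : X.pt) : Nontrivial (X.ring p) := by
  haveI := hp p
  exact PrimeSpectrum.nonempty_iff_nontrivial.mp inferInstance

theorem isWellConnected_iff : X.IsWellConnected ↔ (X.IsTopConnected ∧ X.IsPwConnected) := by
  constructor
  · rintro ⟨hc, hp⟩
    haveI : ConnectedSpace (PrimeSpectrum (X.sectRing Set.univ)) := hc
    have hne : Nonempty X.pt := by
      by_contra hn
      haveI : IsEmpty X.pt := not_nonempty_iff.mp hn
      haveI : Nontrivial (X.sectRing Set.univ) := PrimeSpectrum.nonempty_iff_nontrivial.mp inferInstance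
      exact zero_ne_one (α := X.sectRing Set.univ) (Subtype.ext (funext fun q : ↥(Set.univ : Set X.pt) => (IsEmpty.false q.1).elim))
    refine ⟨⟨hne, fun p q => ?_⟩, hp⟩
    classical
    let r : X.pt → X.pt → Prop := Relation.EqvGen fun a b : X.pt => a ≤ b
    have hr : ∀ a b : X.pt, a ≤ b → (r p a ↔ r p b) := fun a b h =>
      ⟨fun ha => ha.trans _ _ _ (Relation.EqvGen.rel _ _ h),
        fun hb => hb.trans _ _ _ (Relation.EqvGen.symm _ _ (Relation.EqvGen.rel _ _ h))⟩
    let e : X.sectRing Set.univ := ⟨fun a => if r p a.1 then 1 else 0, fun a b h => by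
      show X.res h (if r p a.1 then 1 else 0) = if r p b.1 then 1 else 0
      by_cases ha : r p a.1
      · rw [if_pos ha, if_pos ((hr _ _ h).mp ha), map_one]
      · rw [if_neg ha, if_neg (fun hb => ha ((hr _ _ h).mpr hb)), map_zero]⟩
    have he : IsIdempotentElem e := Subtype.ext (funext fun a => by
      show (if r p a.1 then (1 : X.ring a.1) else 0) * (if r p a.1 then 1 else 0) = _
      split_ifs with ha <;> simp [e, ha])
    haveI := nontrivial_of_pw hp
    rcases idempotent_eq he with h0 | h1
    · have := congr_arg (fun t : X.sectRing Set.univ => t.1 ⟨p, trivial⟩) h0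
      simp only [e] at this
      rw [if_pos (Relation.EqvGen.refl p)] at this
      exact absurd this one_ne_zero
    · have := congr_arg (fun t : X.sectRing Set.univ => t.1 ⟨q, trivial⟩) h1
      simp only [e] at this
      by_contra hq
      rw [if_neg hq] at this
      exact zero_ne_one this
  · rintro ⟨⟨hne, ht⟩, hp⟩
    refine ⟨?_, hp⟩
    haveI := nontrivial_of_pw hp
    obtain ⟨p₀⟩ := hne
    haveI : Nontrivial (X.sectRing Set.univ) := ⟨⟨0, 1, fun h =>
      zero_ne_one (congr_arg (fun t : X.sectRing Set.univ => t.1 ⟨p₀, trivial⟩) h)⟩⟩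
    refine connectedSpace_of_idempotent fun e he => ?_
    have key : ∀ a : X.pt, e.1 ⟨a, trivial⟩ = 0 ∨ e.1 ⟨a, trivial⟩ = 1 := fun a => by
      haveI := hp a
      exact idempotent_eq (congr_arg (fun t : X.sectRing Set.univ => t.1 ⟨a, trivial⟩) he)
    have hconst : ∀ a b : X.pt, Relation.EqvGen (fun a b : X.pt => a ≤ b) a b →
        (e.1 ⟨a, trivial⟩ = 0 ↔ e.1 ⟨b, trivial⟩ = 0) := by
      intro a b h
      induction h with
      | rel a b h =>
        have hab := e.2 ⟨a, trivial⟩ ⟨b, trivial⟩ h
        constructor
        · intro ha; rw [← hab, ha, map_zero]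
        · intro hb
          refine (key a).resolve_right fun ha => ?_
          rw [ha, map_one, hb] at hab
          exact one_ne_zero hab
      | refl a => rfl
      | symm a b _ ih => exact ih.symm
      | trans a b c _ _ ih ih' => exact ih.trans ih'
    rcases key p₀ with h0 | h1
    · exact Or.inl (Subtype.ext (funext fun a => (hconst p₀ a.1 (ht _ _)).mp h0))
    · refine Or.inr (Subtype.ext (funext fun a => (key a.1).resolve_left fun ha => ?_))
      exact one_ne_zero (h1.symm.trans ((hconst p₀ a.1 (ht _ _)).mpr ha))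

/-- morphisms of trivial covers -/
theorem exists_index (hW : X.IsWellConnected) (F E : Type) [Finite F] [Finite E]
    (f : ∀ p : X.pt, (F → X.ring p) →ₐ[X.ring p] (E → X.ring p))
    (hf : ∀ (p q : X.pt) (h : p ≤ q) (g : F → X.ring p) (e : E),
      X.res h (f p g e) = f q (fun i => X.res h (g i)) e) :
    ∃ φ : E → F, ∀ (p : X.pt) (g : F → X.ring p) (e : E), f p g e = g (φ e) := by
  classical
  haveI := Fintype.ofFinite F
  obtain ⟨⟨⟨p₀⟩, ht⟩, hp⟩ := isWellConnected_iff.mp hW
  haveI := nontrivial_of_pw hp
  have hsum : ∀ (p : X.pt) (e : E), ∑ i : F, f p (Pi.single i 1) e = 1 := by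
    intro p e
    rw [← Finset.sum_apply, ← map_sum, Finset.univ_sum_single, show (fun _ : F => (1 : X.ring p)) = 1 from rfl,
      map_one]
    rfl
  have hmul : ∀ (p : X.pt) (e : E) (i j : F), i ≠ j →
      f p (Pi.single i 1) e * f p (Pi.single j 1) e = 0 := by
    intro p e i j h
    rw [← Pi.mul_apply, ← map_mul]
    have : (Pi.single i 1 : F → X.ring p) * Pi.single j 1 = 0 := by
      funext k
      by_cases hk : k = i
      · subst hk; simp [Pi.single_eq_of_ne h]
      · simp [Pi.single_eq_of_ne hk]
    rw [this, map_zero]; rfl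
  have hid : ∀ (p : X.pt) (e : E) (i : F), f p (Pi.single i 1) e = 0 ∨ f p (Pi.single i 1) e = 1 := by
    intro p e i
    haveI := hp p
    refine idempotent_eq ?_
    show f p (Pi.single i 1) e * f p (Pi.single i 1) e = _
    rw [← Pi.mul_apply, ← map_mul]
    refine congr_arg (fun g => f p g e) (funext fun k => ?_)
    by_cases hk : k = i
    · subst hk; simp
    · simp [Pi.single_eq_of_ne hk]
  have hex : ∀ (p : X.pt) (e : E), ∃! i : F, f p (Pi.single i 1) e = 1 := by
    intro p e
    have : ∃ i : F, f p (Pi.single i 1) e = 1 := by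
      by_contra hno
      push Not at hno
      have := hsum p e
      rw [Finset.sum_eq_zero fun i _ => (hid p e i).resolve_right (hno i)] at this
      exact zero_ne_one this
    obtain ⟨i, hi⟩ := this
    refine ⟨i, hi, fun j hj => ?_⟩
    by_contra hne
    have := hmul p e j i hne
    rw [hj, hi, one_mul] at this
    exact one_ne_zero this
  choose φ hφ hφu using hex
  have hle : ∀ p q : X.pt, p ≤ q → ∀ e, φ q e = φ p e := by
    intro p q h e
    refine (hφu q e _ ?_).symm
    have := hf p q h (Pi.single (φ p e) 1) e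
    rw [hφ p e, map_one] at this
    refine Eq.trans ?_ this.symm
    refine congr_arg (fun g => f q g e) (funext fun i => ?_)
    by_cases hi : i = φ p e
    · subst hi; simp
    · simp [Pi.single_eq_of_ne hi]
  have hconst : ∀ p q : X.pt, Relation.EqvGen (fun a b : X.pt => a ≤ b) p q → φ p = φ q := by
    intro p q h
    induction h with
    | rel a b h => exact funext fun e => (hle a b h e).symm
    | refl a => rfl
    | symm a b _ ih => exact ih.symm
    | trans a b c _ _ ih ih' => exact ih.trans ih'
  refine ⟨φ p₀, fun p g e => ?_⟩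
  rw [hconst p₀ p (ht _ _)]
  have : g = ∑ i : F, g i • (Pi.single i 1 : F → X.ring p) := by
    funext k
    simp [Finset.sum_apply, Pi.single_apply]
  conv_lhs => rw [this]
  rw [map_sum, Finset.sum_apply, Finset.sum_eq_single (φ p e)]
  · rw [map_smul, Pi.smul_apply, hφ, smul_eq_mul, mul_one]
  · intro i _ hi
    rw [map_smul, Pi.smul_apply, (hid p e i).resolve_right fun h => hi (hφu p e i h), smul_zero]
  · exact fun h => absurd (Finset.mem_univ _) h

end Groth.Agent.H13SchFin
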