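import Mathlib.RingTheory.Etale.Basic
import Mathlib.RingTheory.Etale.Pi
import Mathlib.RingTheory.Unramified.Finite
import Mathlib.RingTheory.Smooth.Locus
import Mathlib.RingTheory.Support
import Mathlib.RingTheory.Ideal.IdempotentFG
import Mathlib.RingTheory.Flat.Stability
import Mathlib.RingTheory.Smooth.Flat

/-! Commutative algebra of finite étale algebras used for étale covers. -/

set_option autoImplicit false

open TensorProduct

namespace Groth.Agent.H13SchFin

universe u

theorem isNoetherianRing_of_finite (R A : Type u) [CommRing R] [CommRing A] [Algebra R A]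
    [IsNoetherianRing R] [Module.Finite R A] : IsNoetherianRing A :=
  isNoetherianRing_iff.mpr (isNoetherian_of_tower R inferInstance)

theorem etale_quotient_idempotent {R A : Type u} [CommRing R] [CommRing A] [Algebra R A]
    [Algebra.Etale R A] {e : A} (he : IsIdempotentElem e) :
    Algebra.Etale R (A ⧸ Ideal.span {e}) := by
  haveI : IsLocalization.Away (1 - e) (A ⧸ Ideal.span {e}) := by
    refine IsLocalization.away_of_isIdempotentElem he.one_sub ?_ Ideal.Quotient.mk_surjective
    rw [sub_sub_cancel]
    exact Ideal.mk_ker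
  haveI : Algebra.Etale A (A ⧸ Ideal.span {e}) := Algebra.Etale.of_isLocalizationAway (1 - e)
  exact Algebra.Etale.comp R A _

theorem etale_prod_aux {R : Type u} [CommRing R] (F : Bool → Type u) [∀ b, CommRing (F b)]
    [∀ b, Algebra R (F b)] [∀ b, Algebra.Etale R (F b)] : Algebra.Etale R (F true × F false) := by
  let φ : (∀ b, F b) →ₐ[R] F true × F false :=
    (Pi.evalAlgHom R F true).prod (Pi.evalAlgHom R F false)
  refine Algebra.Etale.of_equiv (AlgEquiv.ofBijective φ ⟨fun x y h => funext fun b => ?_, fun p => ?_⟩)
  · cases b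
    · exact congr_arg Prod.snd h
    · exact congr_arg Prod.fst h
  · exact ⟨fun b => Bool.rec (motive := F) p.2 p.1 b, rfl⟩

theorem etale_prod {R A B : Type u} [cR : CommRing R] [cA : CommRing A] [cB : CommRing B]
    [aA : Algebra R A] [aB : Algebra R B] [hA : Algebra.Etale R A] [hB : Algebra.Etale R B] :
    Algebra.Etale R (A × B) :=
  @etale_prod_aux R cR (fun b => Bool.rec (motive := fun _ => Type u) B A b)
    (fun b => match b with | true => cA | false => cB)
    (fun b => match b with | true => aA | false => aB)
    (fun b => match b with | true => hA | false => hB)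

theorem etale_of_subsingleton (R A : Type u) [CommRing R] [CommRing A] [Algebra R A]
    [Subsingleton A] : Algebra.Etale R A := by
  haveI := etale_quotient_idempotent (R := R) (A := R) (e := 1) (by simp [IsIdempotentElem])
  haveI : Subsingleton (R ⧸ Ideal.span {(1 : R)}) :=
    Ideal.Quotient.subsingleton_iff.mpr (Ideal.span_singleton_one)
  exact Algebra.Etale.of_equiv
    (AlgEquiv.ofBijective (Ideal.Quotient.liftₐ (Ideal.span {(1 : R)}) (Algebra.ofId R A)
      (fun _ _ => Subsingleton.elim _ _))
      ⟨Function.injective_of_subsingleton _, fun x => ⟨0, Subsingleton.elim _ _⟩⟩)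

/-- The kernel of a map of finite étale algebras over a Noetherian ring is generated by an idempotent. -/
theorem exists_idempotent_ker {R A B : Type u} [CommRing R] [CommRing A] [CommRing B] [Algebra R A]
    [Algebra R B] [IsNoetherianRing R] [Module.Finite R A] [Module.Finite R B] [Algebra.Etale R A]
    [Algebra.Etale R B] (f : A →ₐ[R] B) :
    ∃ e : A, IsIdempotentElem e ∧ RingHom.ker f.toRingHom = Ideal.span {e} := by
  haveI := isNoetherianRing_of_finite R A
  letI : Algebra A B := f.toRingHom.toAlgebra
  haveI : IsScalarTower R A B := IsScalarTower.of_algebraMap_eq fun r => (f.commutes r).symm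
  haveI : Module.Finite A B := Module.Finite.of_restrictScalars_finite R A B
  haveI : Module.Flat A B := Algebra.FormallyUnramified.flat_of_restrictScalars R A B
  let K := RingHom.ker f.toRingHom
  have hidem : IsIdempotentElem K := by
    refine le_antisymm Ideal.mul_le_right fun x hx => ?_
    by_contra hxK
    have htop : (K * K).colon {x} ≠ ⊤ := fun h => hxK (by
      have := (h ▸ Submodule.mem_top : (1 : A) ∈ (K * K).colon {x})
      simpa using Submodule.mem_colon_singleton.mp this)
    obtain ⟨m, hm, hle⟩ := Ideal.exists_le_maximal _ htop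
    haveI := hm.isPrime
    let P : PrimeSpectrum A := ⟨m, inferInstance⟩
    suffices ∃ s ∉ m, s * x ∈ K * K by
      obtain ⟨s, hs, hsx⟩ := this
      exact hs (hle (Submodule.mem_colon_singleton.mpr hsx))
    by_cases hP : P ∈ Module.support A B
    · haveI : Nontrivial (LocalizedModule m.primeCompl B) := hP
      haveI : Module.Free (Localization.AtPrime m) (LocalizedModule m.primeCompl B) :=
        Module.free_of_flat_of_isLocalRing
      have h0 : algebraMap A (Localization.AtPrime m) x = 0 := by
        refine FaithfulSMul.eq_of_smul_eq_smul (α := LocalizedModule m.primeCompl B) fun v => ?_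
        rw [zero_smul, algebraMap_smul]
        induction v using LocalizedModule.induction_on with
        | h b s =>
          rw [LocalizedModule.smul'_mk, show x • b = 0 by
            rw [Algebra.smul_def]; exact mul_eq_zero_of_left hx b]
          exact LocalizedModule.zero_mk s
      obtain ⟨s, hs⟩ := (IsLocalization.map_eq_zero_iff m.primeCompl (Localization.AtPrime m) x).mp h0
      exact ⟨s.1, s.2, by rw [hs]; exact zero_mem _⟩
    · obtain ⟨s, hs, hs0⟩ := Module.notMem_support_iff'.mp hP (1 : B)
      refine ⟨s, hs, Ideal.mul_mem_mul ?_ hx⟩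
      show f s = 0
      rw [Algebra.smul_def, mul_one] at hs0
      exact hs0
  obtain ⟨e, he, hK⟩ := (Ideal.isIdempotentElem_iff_of_fg K (IsNoetherian.noetherian K)).mp hidem
  exact ⟨e, he, hK⟩

theorem idempotent_unique {A : Type u} [CommRing A] {e e' : A} (he : IsIdempotentElem e)
    (he' : IsIdempotentElem e') (h : Ideal.span {e} = Ideal.span {e'}) : e = e' := by
  obtain ⟨a, ha⟩ := Ideal.mem_span_singleton'.mp (h ▸ Ideal.mem_span_singleton_self e :
    e ∈ Ideal.span {e'})
  obtain ⟨b, hb⟩ := Ideal.mem_span_singleton'.mp (h.symm ▸ Ideal.mem_span_singleton_self e' :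
    e' ∈ Ideal.span {e})
  calc e = e * e' := by rw [← ha, mul_assoc, he'.eq]
    _ = e' := by rw [mul_comm, ← hb, mul_assoc, he.eq]

/-- an idempotent generating the relations identifying the two images of `C` in `A ⊗ B` -/
theorem exists_idempotent_pushout {R A B C : Type u} [CommRing R] [CommRing A] [CommRing B]
    [CommRing C] [Algebra R A] [Algebra R B] [Algebra R C] [Algebra.Etale R C]
    (f : C →ₐ[R] A) (g : C →ₐ[R] B) :
    ∃ e : A ⊗[R] B, IsIdempotentElem e ∧
      Ideal.span {e} = Ideal.span (Set.range fun c : C => f c ⊗ₜ[R] (1 : B) - (1 : A) ⊗ₜ[R] g c) := by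
  obtain ⟨e, he, hsp⟩ : ∃ e, IsIdempotentElem e ∧ KaehlerDifferential.ideal R C = C ⊗[R] C ∙ e :=
    (Ideal.isIdempotentElem_iff_of_fg _ (KaehlerDifferential.ideal_fg R C)).mp <|
      (Ideal.cotangent_subsingleton_iff _).mp <| inferInstanceAs <| Subsingleton Ω[C⁄R]
  let φ := (Algebra.TensorProduct.map f g).toRingHom
  refine ⟨φ e, he.map φ, ?_⟩
  have h1 : Ideal.span {e} = Ideal.span (Set.range fun c : C => c ⊗ₜ[R] (1 : C) - (1 : C) ⊗ₜ[R] c) := by
    rw [← show KaehlerDifferential.ideal R C = Ideal.span {e} from hsp,
      ← KaehlerDifferential.span_range_eq_ideal]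
    refine le_antisymm ?_ ?_ <;> refine Ideal.span_le.mpr ?_ <;> rintro _ ⟨c, rfl⟩
    · have := neg_mem (Ideal.subset_span (s := Set.range fun c : C => c ⊗ₜ[R] (1 : C) - (1 : C) ⊗ₜ[R] c) ⟨c, rfl⟩)
      rw [neg_sub] at this
      exact this
    · have := neg_mem (Ideal.subset_span (s := Set.range fun c : C => (1 : C) ⊗ₜ[R] c - c ⊗ₜ[R] (1 : C)) ⟨c, rfl⟩)
      rw [neg_sub] at this
      exact this
  have h2 := congr_arg (Ideal.map φ) h1
  rw [Ideal.map_span, Ideal.map_span, Set.image_singleton, ← Set.range_comp] at h2
  rw [h2]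
  congr 2
  funext c
  simp [φ]

end Groth.Agent.H13SchFin
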