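import Groth.Agent.H13SchFin.Affine
import Groth.Agent.H13SchFin.EtAlg
import Mathlib.LinearAlgebra.TensorProduct.Prod

/-! Constructions of étale covers: quotients, products, tensor products, subalgebras. -/

set_option autoImplicit false

open TensorProduct CategoryTheory

namespace Groth.Agent.H13SchFin

open SchFin

universe u

section Linear

variable {R S : Type u} [CommRing R] [CommRing S] [Algebra R S]
variable {M N M' N' : Type u} [AddCommGroup M] [AddCommGroup N] [AddCommGroup M'] [AddCommGroup N']
  [Module R M] [Module R N] [Module S M'] [Module S N']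
variable (a : M →+ M') (ha : ∀ (r : R) m, a (r • m) = algebraMap R S r • a m)
variable (b : N →+ N') (hb : ∀ (r : R) m, b (r • m) = algebraMap R S r • b m)

theorem liftSMul_smul (s : S) (z : S ⊗[R] M) : liftSMul a ha (s • z) = s • liftSMul a ha z := by
  induction z using TensorProduct.induction_on with
  | zero => simp
  | tmul t m => rw [TensorProduct.smul_tmul', liftSMul_tmul, liftSMul_tmul, smul_eq_mul, mul_smul]
  | add p q hp hq => simp only [smul_add, map_add, hp, hq]

theorem mem_span_of_bijective (hbij : Function.Bijective (liftSMul a ha)) (y : M') :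
    y ∈ Submodule.span S (Set.range a) := by
  obtain ⟨z, rfl⟩ := hbij.2 y
  induction z using TensorProduct.induction_on with
  | zero => simp
  | tmul t m => rw [liftSMul_tmul]; exact Submodule.smul_mem _ _ (Submodule.subset_span ⟨m, rfl⟩)
  | add p q hp hq => rw [map_add]; exact add_mem hp hq

variable (f : M →ₗ[R] N) (f' : M' →ₗ[S] N') (hf : ∀ m, f' (a m) = b (f m))

include hf in
theorem liftSMul_lTensor (z : S ⊗[R] M) :
    f' (liftSMul a ha z) = liftSMul b hb (f.lTensor S z) := by
  induction z using TensorProduct.induction_on with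
  | zero => simp
  | tmul t m => simp [hf]
  | add p q hp hq => simp only [map_add, hp, hq]

/-- the restriction to the kernels -/
def kerMap : LinearMap.ker f →+ LinearMap.ker f' where
  toFun m := ⟨a m, by rw [LinearMap.mem_ker, hf, LinearMap.mem_ker.mp m.2, map_zero]⟩
  map_zero' := Subtype.ext (map_zero a)
  map_add' _ _ := Subtype.ext (map_add a _ _)

include ha in
theorem kerMap_smul (r : R) (m : LinearMap.ker f) :
    kerMap a b f f' hf (r • m) = algebraMap R S r • kerMap a b f f' hf m :=
  Subtype.ext (ha r m)

include hb in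
theorem kerMap_bijective [Module.Flat R S] (hA : Function.Bijective (liftSMul a ha))
    (hB : Function.Injective (liftSMul b hb)) :
    Function.Bijective (liftSMul (kerMap a b f f' hf) (kerMap_smul a ha b f f' hf)) := by
  have key : ∀ z, ((liftSMul (kerMap a b f f' hf) (kerMap_smul a ha b f f' hf) z : LinearMap.ker f') : M') =
      liftSMul a ha ((LinearMap.ker f).subtype.lTensor S z) := by
    intro z
    induction z using TensorProduct.induction_on with
    | zero => simp
    | tmul t m => simp [kerMap]
    | add p q hp hq => simp only [map_add, Submodule.coe_add, hp, hq]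
  constructor
  · intro x y h
    refine Module.Flat.lTensor_preserves_injective_linearMap _ (LinearMap.ker f).injective_subtype (hA.1 ?_)
    rw [← key, ← key, h]
  · intro y
    obtain ⟨z, hz⟩ := hA.2 y.1
    have h0 : f.lTensor S z = 0 := hB (by
      rw [map_zero, ← liftSMul_lTensor a ha b hb f f' hf, hz]
      exact y.2)
    obtain ⟨w, hw⟩ := (Module.Flat.lTensor_exact S (LinearMap.exact_subtype_ker_map f) z).mp h0
    exact ⟨w, Subtype.ext (by rw [key, hw, hz])⟩

include hb hf in
theorem ker_le_span [Module.Flat R S] (hA : Function.Bijective (liftSMul a ha))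
    (hB : Function.Injective (liftSMul b hb)) :
    LinearMap.ker f' ≤ Submodule.span S (a '' (LinearMap.ker f : Set M)) := by
  intro y hy
  obtain ⟨z, hz⟩ := (kerMap_bijective a ha b hb f f' hf hA hB).2 ⟨y, hy⟩
  have : y = ((⟨y, hy⟩ : LinearMap.ker f') : M') := rfl
  rw [this, ← hz]
  clear hz this
  induction z using TensorProduct.induction_on with
  | zero => simp
  | tmul t m =>
    rw [liftSMul_tmul, Submodule.coe_smul]
    exact Submodule.smul_mem _ _ (Submodule.subset_span ⟨m.1, m.2, rfl⟩)
  | add p q hp hq => rw [map_add, Submodule.coe_add]; exact add_mem hp hq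

include hb hf in
theorem bijective_of_surjective_ker (hA : Function.Bijective (liftSMul a ha))
    (hf1 : Function.Surjective f) (hf2 : Function.Surjective f')
    (hker : LinearMap.ker f' ≤ Submodule.span S (a '' (LinearMap.ker f : Set M))) :
    Function.Bijective (liftSMul b hb) := by
  constructor
  · rw [injective_iff_map_eq_zero]
    intro w hw
    obtain ⟨z, rfl⟩ := LinearMap.lTensor_surjective S hf1 w
    rw [← liftSMul_lTensor a ha b hb f f' hf] at hw
    have : ∀ y ∈ Submodule.span S (a '' (LinearMap.ker f : Set M)),
        ∀ z, liftSMul a ha z = y → f.lTensor S z = 0 := by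
      intro y hy
      induction hy using Submodule.span_induction with
      | mem y hy =>
        obtain ⟨m, hm, rfl⟩ := hy
        intro z hz
        rw [hA.1 (a₁ := z) (a₂ := 1 ⊗ₜ m) (by rw [hz, liftSMul_tmul, one_smul])]
        simp [LinearMap.mem_ker.mp hm]
      | zero =>
        intro z hz
        rw [hA.1 (a₁ := z) (a₂ := 0) (by rw [hz, map_zero]), map_zero]
      | add p q _ _ hp hq =>
        intro z hz
        obtain ⟨zp, hzp⟩ := hA.2 p
        obtain ⟨zq, hzq⟩ := hA.2 q
        rw [hA.1 (a₁ := z) (a₂ := zp + zq) (by rw [hz, map_add, hzp, hzq]), map_add, hp zp hzp,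
          hq zq hzq, add_zero]
      | smul c p _ hp =>
        intro z hz
        obtain ⟨zp, hzp⟩ := hA.2 p
        rw [hA.1 (a₁ := z) (a₂ := c • zp) (by rw [hz, liftSMul_smul, hzp])]
        have := (f.baseChange S).map_smul c zp
        exact this.trans (by rw [show f.baseChange S zp = 0 from hp zp hzp, smul_zero])
    exact this _ (hker hw) z rfl
  · intro y
    obtain ⟨x, rfl⟩ := hf2 y
    obtain ⟨z, rfl⟩ := hA.2 x
    exact ⟨f.lTensor S z, (liftSMul_lTensor a ha b hb f f' hf z).symm⟩

include ha hb in
theorem prodMap_smul (r : R) (m : M × N) :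
    (a.prodMap b) (r • m) = algebraMap R S r • (a.prodMap b) m :=
  Prod.ext (ha r m.1) (hb r m.2)

theorem bijective_prod (hA : Function.Bijective (liftSMul a ha))
    (hB : Function.Bijective (liftSMul b hb)) :
    Function.Bijective (liftSMul (a.prodMap b) (prodMap_smul a ha b hb)) := by
  let e := TensorProduct.prodRight R R S M N
  have : ⇑(liftSMul (a.prodMap b) (prodMap_smul a ha b hb)) =
      Prod.map (liftSMul a ha) (liftSMul b hb) ∘ e := by
    funext z
    induction z using TensorProduct.induction_on with
    | zero => simp only [Function.comp_apply, map_zero]; exact Prod.ext (map_zero _).symm (map_zero _).symm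
    | tmul t m => simp [e]; rfl
    | add p q hp hq =>
      simp only [map_add, Function.comp_apply] at hp hq ⊢
      rw [hp, hq]
      exact (Prod.ext (map_add _ _ _).symm (map_add _ _ _).symm)
  rw [this]
  exact (hA.prodMap hB).comp e.bijective

theorem bijective_of_subsingleton [Subsingleton M] [Subsingleton M'] :
    Function.Bijective (liftSMul a ha) := by
  haveI : Subsingleton (S ⊗[R] M) := subsingleton_of_forall_eq 0 fun z => by
    induction z using TensorProduct.induction_on with
    | zero => rfl
    | tmul t m => rw [Subsingleton.elim m 0, tmul_zero]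
    | add p q hp hq => rw [hp, hq, add_zero]
  exact ⟨Function.injective_of_subsingleton _, fun y => ⟨0, Subsingleton.elim _ _⟩⟩

/-- base change of a tensor product -/
noncomputable def tensorMap₂ : M ⊗[R] N →+ M' ⊗[S] N' :=
  TensorProduct.liftAddHom
    { toFun := fun m =>
        { toFun := fun n => a m ⊗ₜ[S] b n
          map_zero' := by rw [map_zero, tmul_zero]
          map_add' := fun n n' => by rw [map_add, tmul_add] }
      map_zero' := by ext n; simp
      map_add' := fun m m' => by ext n; simp [add_tmul] }
    (fun r m n => by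
      show a (r • m) ⊗ₜ[S] b n = a m ⊗ₜ[S] b (r • n)
      rw [ha, hb, smul_tmul])

theorem tensorMap₂_tmul (m : M) (n : N) : tensorMap₂ a ha b hb (m ⊗ₜ n) = a m ⊗ₜ b n := rfl

theorem tensorMap₂_smul (r : R) (z : M ⊗[R] N) :
    tensorMap₂ a ha b hb (r • z) = algebraMap R S r • tensorMap₂ a ha b hb z := by
  induction z using TensorProduct.induction_on with
  | zero => simp
  | tmul m n => rw [smul_tmul', tensorMap₂_tmul, tensorMap₂_tmul, ha, smul_tmul']
  | add p q hp hq => simp only [smul_add, map_add, hp, hq]

theorem bijective_tensor (hA : Function.Bijective (liftSMul a ha))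
    (hB : Function.Bijective (liftSMul b hb)) :
    Function.Bijective (liftSMul (tensorMap₂ a ha b hb) (tensorMap₂_smul a ha b hb)) := by
  let eA : S ⊗[R] M ≃ₗ[S] M' :=
    { AddEquiv.ofBijective _ hA with map_smul' := liftSMul_smul a ha }
  let eB : S ⊗[R] N ≃ₗ[S] N' :=
    { AddEquiv.ofBijective _ hB with map_smul' := liftSMul_smul b hb }
  let e := (TensorProduct.AlgebraTensorModule.distribBaseChange R S M N).trans
    (TensorProduct.congr eA eB)
  have : ⇑(liftSMul (tensorMap₂ a ha b hb) (tensorMap₂_smul a ha b hb)) = e := by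
    funext z
    induction z using TensorProduct.induction_on with
    | zero => simp
    | add p q hp hq => simp only [map_add, hp, hq]
    | tmul s x =>
      induction x using TensorProduct.induction_on with
      | zero => simp
      | add p q hp hq => simp only [tmul_add, map_add, hp, hq]
      | tmul m n =>
        simp [e, eA, eB, tensorMap₂_tmul, smul_tmul']
  rw [this]
  exact e.bijective

end Linear

section Alg

variable {X : RSpace.{u}}

/-- The scalar action of a smaller ring on a larger one. -/
@[reducible] def resAlg {p q : X.pt} (h : p ≤ q) : Algebra (X.ring p) (X.ring q) := (X.res h).toAlgebra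

theorem res_smul (A : Alg X) {p q : X.pt} (h : p ≤ q) (r : X.ring p) (m : A.carrier p) :
    A.res h (r • m) = X.res h r • A.res h m := by
  rw [Algebra.smul_def, Algebra.smul_def, map_mul, A.res_algebraMap]

theorem qcoh_iff (A : Alg X) : A.IsQcoh ↔ ∀ (p q : X.pt) (h : p ≤ q),
    letI := resAlg h
    Function.Bijective (liftSMul (A.res h).toAddMonoidHom (res_smul A h)) := by
  constructor
  · intro hA p q h
    letI := resAlg h
    exact IsBCAlong.bijective rfl (hA p q h) _ fun s m => rfl
  · intro hA p q h
    letI := resAlg h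
    exact isBCAlong_of_bijective rfl _ (liftSMul (A.res h).toAddMonoidHom (res_smul A h))
      (fun s m => rfl) (hA p q h)

/-- quotient of an algebra by a compatible family of ideals -/
def quotAlg (A : Alg X) (I : ∀ p, Ideal (A.carrier p))
    (hI : ∀ {p q : X.pt} (h : p ≤ q), I p ≤ (I q).comap (A.res h)) : Alg X where
  carrier p := A.carrier p ⧸ I p
  res {p q} h := Ideal.quotientMap (I q) (A.res h) (hI h)
  res_algebraMap {p q} h a := by
    show Ideal.quotientMap (I q) (A.res h) (hI h) (Ideal.Quotient.mk (I p) (algebraMap _ _ a)) = _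
    rw [Ideal.quotientMap_mk, A.res_algebraMap]
    rfl
  res_self p b := by
    obtain ⟨b, rfl⟩ := Ideal.Quotient.mk_surjective b
    rw [Ideal.quotientMap_mk, A.res_self]
  res_comp h h' b := by
    obtain ⟨b, rfl⟩ := Ideal.Quotient.mk_surjective b
    rw [Ideal.quotientMap_mk, Ideal.quotientMap_mk, Ideal.quotientMap_mk, A.res_comp]

/-- the projection to a quotient algebra -/
def quotπ (A : Alg X) (I : ∀ p, Ideal (A.carrier p))
    (hI : ∀ {p q : X.pt} (h : p ≤ q), I p ≤ (I q).comap (A.res h)) : A ⟶ quotAlg A I hI :=
  ⟨fun p => Ideal.Quotient.mkₐ (X.ring p) (I p), fun _ _ => rfl⟩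

theorem ideal_le_span_image (A : Alg X) (hA : A.IsQcoh) {p q : X.pt} (h : p ≤ q)
    (I : Ideal (A.carrier p)) :
    ((I.map (A.res h)).restrictScalars (X.ring q)) ≤
      Submodule.span (X.ring q) (A.res h '' (I : Set (A.carrier p))) := by
  letI := resAlg h
  intro y hy
  replace hy : y ∈ Ideal.span (A.res h '' (I : Set (A.carrier p))) := hy
  induction hy using Submodule.span_induction with
  | mem y hy => exact Submodule.subset_span hy
  | zero => exact zero_mem _
  | add a b _ _ ha hb => exact add_mem ha hb
  | smul c b hb0 hb =>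
    clear hb0
    have hc : c ∈ Submodule.span (X.ring q) (Set.range (A.res h).toAddMonoidHom) :=
      mem_span_of_bijective (A.res h).toAddMonoidHom (res_smul A h) ((qcoh_iff A).mp hA p q h) c
    rw [smul_eq_mul]
    induction hc using Submodule.span_induction with
    | mem c hc =>
      obtain ⟨c, rfl⟩ := hc
      induction hb using Submodule.span_induction with
      | mem b hb =>
        obtain ⟨b, hb, rfl⟩ := hb
        refine Submodule.subset_span ⟨c * b, I.mul_mem_left c hb, ?_⟩
        exact map_mul _ _ _
      | zero => rw [mul_zero]; exact zero_mem _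
      | add b b' _ _ hb hb' => rw [mul_add]; exact add_mem hb hb'
      | smul t b _ hb => rw [mul_smul_comm]; exact Submodule.smul_mem _ _ hb
    | zero => rw [zero_mul]; exact zero_mem _
    | add c c' _ _ hc hc' => rw [add_mul]; exact add_mem hc hc'
    | smul t c _ hc => rw [smul_mul_assoc]; exact Submodule.smul_mem _ _ hc

theorem quotAlg_isQcoh (A : Alg X) (hA : A.IsQcoh) (I : ∀ p, Ideal (A.carrier p))
    (hI : ∀ {p q : X.pt} (h : p ≤ q), I p ≤ (I q).comap (A.res h))
    (hI' : ∀ {p q : X.pt} (h : p ≤ q), I q ≤ (I p).map (A.res h)) : (quotAlg A I hI).IsQcoh := by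
  refine (qcoh_iff _).mpr fun p q h => ?_
  letI := resAlg h
  refine bijective_of_surjective_ker (A.res h).toAddMonoidHom (res_smul A h) _ _
    (Ideal.Quotient.mkₐ (X.ring p) (I p)).toLinearMap (Ideal.Quotient.mkₐ (X.ring q) (I q)).toLinearMap
    (fun _ => rfl) ((qcoh_iff A).mp hA p q h) Ideal.Quotient.mk_surjective Ideal.Quotient.mk_surjective ?_
  intro y hy
  have hy' : y ∈ I q := Ideal.Quotient.eq_zero_iff_mem.mp hy
  refine Submodule.span_mono ?_ (ideal_le_span_image A hA h (I p) (hI' h hy'))
  exact Set.image_mono fun m hm => Ideal.Quotient.eq_zero_iff_mem.mpr hm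

/-- product of two algebras -/
def prodAlg (A B : Alg X) : Alg X where
  carrier p := A.carrier p × B.carrier p
  res h := (A.res h).prodMap (B.res h)
  res_algebraMap h a := Prod.ext (A.res_algebraMap h a) (B.res_algebraMap h a)
  res_self p b := Prod.ext (A.res_self p b.1) (B.res_self p b.2)
  res_comp h h' b := Prod.ext (A.res_comp h h' b.1) (B.res_comp h h' b.2)

theorem prodAlg_isQcoh (A B : Alg X) (hA : A.IsQcoh) (hB : B.IsQcoh) : (prodAlg A B).IsQcoh := by
  refine (qcoh_iff _).mpr fun p q h => ?_
  letI := resAlg h
  exact bijective_prod (A.res h).toAddMonoidHom (res_smul A h) (B.res h).toAddMonoidHom (res_smul B h)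
    ((qcoh_iff A).mp hA p q h) ((qcoh_iff B).mp hB p q h)

/-- the zero algebra -/
def zeroAlg (X : RSpace.{u}) : Alg X where
  carrier _ := PUnit
  res _ := RingHom.id _
  res_algebraMap _ _ := rfl
  res_self _ _ := rfl
  res_comp _ _ _ := rfl

theorem zeroAlg_isQcoh (X : RSpace.{u}) : (zeroAlg X).IsQcoh := by
  refine (qcoh_iff _).mpr fun p q h => ?_
  letI := resAlg h
  haveI : Subsingleton ((zeroAlg X).carrier p) := inferInstanceAs (Subsingleton PUnit)
  haveI : Subsingleton ((zeroAlg X).carrier q) := inferInstanceAs (Subsingleton PUnit)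
  exact bijective_of_subsingleton _ _

/-- the restriction of a tensor product -/
noncomputable def tensorRes (A B : Alg X) {p q : X.pt} (h : p ≤ q) :
    A.carrier p ⊗[X.ring p] B.carrier p →+* A.carrier q ⊗[X.ring q] B.carrier q :=
  letI : Algebra (X.ring p) (A.carrier q ⊗[X.ring q] B.carrier q) :=
    ((algebraMap (X.ring q) _).comp (X.res h)).toAlgebra
  (Algebra.TensorProduct.lift
    (⟨Algebra.TensorProduct.includeLeftRingHom.comp (A.res h), fun a => by
      show A.res h (algebraMap _ _ a) ⊗ₜ[X.ring q] (1 : B.carrier q) = _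
      rw [A.res_algebraMap]; rfl⟩ : A.carrier p →ₐ[X.ring p] A.carrier q ⊗[X.ring q] B.carrier q)
    (⟨(Algebra.TensorProduct.includeRight : B.carrier q →ₐ[X.ring q] A.carrier q ⊗[X.ring q] B.carrier q).toRingHom.comp (B.res h), fun a => by
      show (Algebra.TensorProduct.includeRight : B.carrier q →ₐ[X.ring q] A.carrier q ⊗[X.ring q] B.carrier q) (B.res h (algebraMap _ _ a)) = _
      rw [B.res_algebraMap, AlgHom.commutes]; rfl⟩ : B.carrier p →ₐ[X.ring p] A.carrier q ⊗[X.ring q] B.carrier q)
    fun _ _ => Commute.all _ _).toRingHom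

theorem tensorRes_tmul (A B : Alg X) {p q : X.pt} (h : p ≤ q) (a : A.carrier p) (b : B.carrier p) :
    tensorRes A B h (a ⊗ₜ b) = A.res h a ⊗ₜ B.res h b := by
  simp [tensorRes]

/-- tensor product of two algebras -/
noncomputable def tensorAlg (A B : Alg X) : Alg X where
  carrier p := A.carrier p ⊗[X.ring p] B.carrier p
  res h := tensorRes A B h
  res_algebraMap h a := by
    rw [Algebra.TensorProduct.algebraMap_apply, Algebra.TensorProduct.algebraMap_apply,
      tensorRes_tmul, A.res_algebraMap, map_one]
  res_self p z := by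
    induction z using TensorProduct.induction_on with
    | zero => rw [map_zero]
    | tmul a b => rw [tensorRes_tmul, A.res_self, B.res_self]
    | add a b ha hb => rw [map_add, ha, hb]
  res_comp h h' z := by
    induction z using TensorProduct.induction_on with
    | zero => simp only [map_zero]
    | tmul a b => rw [tensorRes_tmul, tensorRes_tmul, tensorRes_tmul, A.res_comp, B.res_comp]
    | add a b ha hb => simp only [map_add, ha, hb]

theorem tensorAlg_isQcoh (A B : Alg X) (hA : A.IsQcoh) (hB : B.IsQcoh) : (tensorAlg A B).IsQcoh := by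
  refine (qcoh_iff _).mpr fun p q h => ?_
  letI := resAlg h
  have hb := bijective_tensor (A.res h).toAddMonoidHom (res_smul A h) (B.res h).toAddMonoidHom
    (res_smul B h) ((qcoh_iff A).mp hA p q h) ((qcoh_iff B).mp hB p q h)
  refine (iff_of_eq (congr_arg Function.Bijective ?_)).mp hb
  funext z
  induction z using TensorProduct.induction_on with
  | zero => exact (map_zero _).trans (map_zero _).symm
  | add a b ha hb => exact (map_add _ _ _).trans ((congr_arg₂ (· + ·) ha hb).trans (map_add _ _ _).symm)
  | tmul s x =>
    induction x using TensorProduct.induction_on with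
    | zero => rw [tmul_zero]; exact (map_zero _).trans (map_zero _).symm
    | add a b ha hb =>
      rw [tmul_add]
      exact (map_add _ _ _).trans ((congr_arg₂ (· + ·) ha hb).trans (map_add _ _ _).symm)
    | tmul m n => exact congr_arg (s • ·) (tensorRes_tmul A B h m n).symm

theorem str_isEtCover (X : RSpace.{u}) : (Alg.str X).IsEtCover := by
  refine ⟨(qcoh_iff _).mpr fun p q h => ?_, fun p => ⟨Module.Finite.self _, ?_⟩⟩
  · letI := resAlg h
    have : ⇑(liftSMul ((Alg.str X).res h).toAddMonoidHom (res_smul (Alg.str X) h)) =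
        TensorProduct.rid (X.ring p) (X.ring q) := by
      funext z
      induction z using TensorProduct.induction_on with
      | zero => exact (map_zero _).trans (map_zero _).symm
      | add a b ha hb => exact (map_add _ _ _).trans ((congr_arg₂ (· + ·) ha hb).trans (map_add _ _ _).symm)
      | tmul s m =>
        show s * X.res h (show X.ring p from m) = (show X.ring p from m) • s
        rw [Algebra.smul_def]
        exact mul_comm _ _
    rw [this]
    exact LinearEquiv.bijective _
  · exact Algebra.Etale.of_equiv (AlgEquiv.refl : X.ring p ≃ₐ[X.ring p] X.ring p)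

/-- kernels of morphisms of étale covers -/
theorem exists_idempotents (hX : X.IsFinSp) {A B : FEt X} (f : A ⟶ B) :
    ∃ e : ∀ p, A.obj.carrier p, (∀ p, IsIdempotentElem (e p)) ∧
      (∀ p, RingHom.ker (f.hom.app p).toRingHom = Ideal.span {e p}) ∧
      ∀ {p q : X.pt} (h : p ≤ q), A.obj.res h (e p) = e q := by
  have hex : ∀ p, ∃ e : A.obj.carrier p, IsIdempotentElem e ∧
      RingHom.ker (f.hom.app p).toRingHom = Ideal.span {e} := fun p => by
    haveI := hX.1 p
    haveI := (A.property.2 p).1
    haveI := (A.property.2 p).2
    haveI := (B.property.2 p).1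
    haveI := (B.property.2 p).2
    exact exists_idempotent_ker _
  choose e he hk using hex
  refine ⟨e, he, hk, fun {p q} h => idempotent_unique ((he p).map _) (he q) ?_⟩
  rw [← hk q]
  refine le_antisymm ?_ ?_
  · rw [Ideal.span_singleton_le_iff_mem]
    show f.hom.app q (A.obj.res h (e p)) = 0
    have h0 : f.hom.app p (e p) = 0 := show e p ∈ RingHom.ker (f.hom.app p).toRingHom from
      (hk p).symm ▸ Ideal.mem_span_singleton_self _
    rw [← f.hom.compat h, h0, map_zero]
  · intro y hy
    letI := resAlg h
    haveI : Module.Flat (X.ring p) (X.ring q) := hX.2 p q h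
    have := ker_le_span (A.obj.res h).toAddMonoidHom (res_smul A.obj h) (B.obj.res h).toAddMonoidHom
      (res_smul B.obj h) (f.hom.app p).toLinearMap (f.hom.app q).toLinearMap
      (fun m => (f.hom.compat h m).symm) ((qcoh_iff _).mp A.property.1 p q h)
      ((qcoh_iff _).mp B.property.1 p q h).1 hy
    refine (Submodule.span_le (p := (Ideal.span {A.obj.res h (e p)}).restrictScalars (X.ring q))).mpr ?_ this
    rintro _ ⟨m, hm, rfl⟩
    have : m ∈ Ideal.span {e p} := hk p ▸ hm
    obtain ⟨c, rfl⟩ := Ideal.mem_span_singleton'.mp this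
    show A.obj.res h (c * e p) ∈ Ideal.span {A.obj.res h (e p)}
    rw [map_mul]
    exact Ideal.mul_mem_left _ _ (Ideal.mem_span_singleton_self _)

/-- quotient of an étale cover by a compatible family of idempotents -/
theorem quot_isEtCover (A : FEt X) (e : ∀ p, A.obj.carrier p) (he : ∀ p, IsIdempotentElem (e p))
    (hres : ∀ {p q : X.pt} (h : p ≤ q), A.obj.res h (e p) = e q) :
    ∃ hI : ∀ {p q : X.pt} (h : p ≤ q),
      Ideal.span {e p} ≤ (Ideal.span {e q}).comap (A.obj.res h),
      (quotAlg A.obj (fun p => Ideal.span {e p}) hI).IsEtCover := by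
  refine ⟨fun {p q} h => by
    rw [Ideal.span_singleton_le_iff_mem]
    show A.obj.res h (e p) ∈ Ideal.span {e q}
    rw [hres h]
    exact Ideal.mem_span_singleton_self _, quotAlg_isQcoh _ A.property.1 _ _ fun {p q} h => by
      rw [Ideal.map_span, Set.image_singleton, hres h], fun p => ?_⟩
  haveI := (A.property.2 p).1
  haveI := (A.property.2 p).2
  exact ⟨Module.Finite.of_surjective (Ideal.Quotient.mkₐ (X.ring p) (Ideal.span {e p})).toLinearMap
    Ideal.Quotient.mk_surjective, etale_quotient_idempotent (he p)⟩

end Alg

end Groth.Agent.H13SchFin
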