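import Groth.Agent.H13SchFin.EtAlg
import Groth.Agent.H13SchFin.FEt
import Mathlib.RingTheory.Etale.Descent
import Mathlib.RingTheory.LocalRing.Module
import Mathlib.RingTheory.Flat.FaithfullyFlat.Algebra
import Mathlib.RingTheory.Spectrum.Prime.FreeLocus
import Mathlib.RingTheory.Etale.Field
import Mathlib.FieldTheory.IsAlgClosed.Basic
import Mathlib.RingTheory.Ideal.GoingUp
import Mathlib.Algebra.Polynomial.Eval.Defs

/-! Ranks, points and invariants of finite étale algebras. -/

set_option autoImplicit false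

open TensorProduct

namespace Groth.Agent.H13SchFin

universe u

section Rank

variable {R A B : Type u} [CommRing R] [CommRing A] [CommRing B] [Algebra R A] [Algebra R B]
  [Module.Finite R A] [Module.Finite R B] [Algebra.Etale R A] [Algebra.Etale R B]

theorem bijective_of_injective_of_rankAtStalk_eq (f : A →ₐ[R] B) (hf : Function.Injective f)
    (h : ∀ P : PrimeSpectrum R, Module.rankAtStalk A P = Module.rankAtStalk B P) :
    Function.Bijective f := by
  refine ⟨hf, ?_⟩
  letI : Algebra A B := f.toRingHom.toAlgebra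
  haveI : IsScalarTower R A B := IsScalarTower.of_algebraMap_eq fun r => (f.commutes r).symm
  haveI : Module.Finite A B := Module.Finite.of_restrictScalars_finite R A B
  haveI : Module.Flat A B := Algebra.FormallyUnramified.flat_of_restrictScalars R A B
  haveI : Algebra.IsIntegral A B := Algebra.IsIntegral.of_finite A B
  haveI : Module.FaithfullyFlat A B := Module.FaithfullyFlat.of_comap_surjective
    (RingHom.IsIntegral.comap_surjective (f := algebraMap A B) Algebra.IsIntegral.isIntegral hf)
  let C := B ⧸ LinearMap.range f.toLinearMap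
  have key : ∀ P : PrimeSpectrum R, Subsingleton (P.asIdeal.ResidueField ⊗[R] C) := by
    intro P
    let κ := P.asIdeal.ResidueField
    let e : B ⊗[A] (A ⊗[R] κ) ≃ₗ[A] B ⊗[R] κ :=
      TensorProduct.AlgebraTensorModule.cancelBaseChange R A A B κ
    have hinj : Function.Injective (f.toLinearMap.rTensor κ) := by
      have he : ⇑(f.toLinearMap.rTensor κ) = e ∘ TensorProduct.mk A B (A ⊗[R] κ) 1 := by
        funext z
        induction z using TensorProduct.induction_on with
        | zero => simp
        | add a b ha hb => simp only [map_add, ha, hb, Function.comp_apply] at *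
        | tmul a k =>
          show f a ⊗ₜ[R] k = e ((1 : B) ⊗ₜ[A] (a ⊗ₜ[R] k))
          rw [TensorProduct.AlgebraTensorModule.cancelBaseChange_tmul, Algebra.smul_def, mul_one]
          rfl
      rw [he]
      exact e.injective.comp (Module.FaithfullyFlat.tensorProduct_mk_injective _)
    let g := f.toLinearMap.baseChange κ
    have hginj : Function.Injective g := by
      intro x y hxy
      apply (TensorProduct.comm R κ A).injective
      apply hinj
      have hc : ∀ z, f.toLinearMap.rTensor κ (TensorProduct.comm R κ A z) =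
          TensorProduct.comm R κ B (g z) := fun z => by
        induction z using TensorProduct.induction_on with
        | zero => simp
        | add a b ha hb => simp only [map_add, ha, hb]
        | tmul k a => simp [g]
      rw [hc, hc, hxy]
    have hfr : Module.finrank κ (κ ⊗[R] A) = Module.finrank κ (κ ⊗[R] B) := by
      have h1 := h P
      rw [Module.rankAtStalk_eq, Module.rankAtStalk_eq] at h1
      exact h1
    have hsurj : Function.Surjective g :=
      (LinearMap.injective_iff_surjective_of_finrank_eq_finrank hfr).mp hginj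
    refine subsingleton_of_forall_eq 0 fun z => ?_
    obtain ⟨w, rfl⟩ := LinearMap.lTensor_surjective κ (LinearMap.range f.toLinearMap).mkQ_surjective z
    obtain ⟨v, rfl⟩ := hsurj w
    show ((LinearMap.range f.toLinearMap).mkQ.lTensor κ) ((f.toLinearMap.lTensor κ) v) = 0
    rw [← LinearMap.comp_apply, ← LinearMap.lTensor_comp,
      show (LinearMap.range f.toLinearMap).mkQ ∘ₗ f.toLinearMap = 0 from LinearMap.ext fun a =>
        (Submodule.Quotient.mk_eq_zero _).mpr ⟨a, rfl⟩, LinearMap.lTensor_zero]
    rfl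
  have : Subsingleton C := by
    rw [← Module.support_eq_empty_iff (R := R), Set.eq_empty_iff_forall_notMem]
    intro P hP
    exact not_nontrivial_iff_subsingleton.mpr (key P)
      ((Module.mem_support_iff_nontrivial_residueField_tensorProduct P).mp hP)
  intro b
  exact (Submodule.Quotient.mk_eq_zero _).mp (Subsingleton.elim (Submodule.Quotient.mk b : C) 0)

end Rank

section Points

variable {R A B Ω : Type u} [CommRing R] [CommRing A] [CommRing B] [Field Ω] [Algebra R A]
  [Algebra R B] [Algebra R Ω]

/-- the extension of a point to the base change -/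
noncomputable def ptMap (φ : A →ₐ[R] Ω) : Ω ⊗[R] A →ₐ[Ω] Ω :=
  Algebra.TensorProduct.lift (Algebra.ofId Ω Ω) φ fun _ _ => Commute.all _ _

theorem ptMap_tmul (φ : A →ₐ[R] Ω) (c : Ω) (a : A) : ptMap φ (c ⊗ₜ a) = c * φ a := by
  simp [ptMap]

/-- the prime of a point -/
noncomputable def ptSpec (φ : A →ₐ[R] Ω) : PrimeSpectrum (Ω ⊗[R] A) :=
  ⟨RingHom.ker (ptMap φ).toRingHom, RingHom.ker_isPrime _⟩

theorem mem_ptSpec (φ : A →ₐ[R] Ω) (x : Ω ⊗[R] A) : x ∈ (ptSpec φ).asIdeal ↔ ptMap φ x = 0 :=
  Iff.rfl

theorem ptSpec_comap (f : A →ₐ[R] B) (φ : B →ₐ[R] Ω) :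
    PrimeSpectrum.comap (Algebra.TensorProduct.map (AlgHom.id Ω Ω) f).toRingHom (ptSpec φ) =
      ptSpec (φ.comp f) := by
  refine PrimeSpectrum.ext (Ideal.ext fun x => ?_)
  show ptMap φ (Algebra.TensorProduct.map (AlgHom.id Ω Ω) f x) = 0 ↔ ptMap (φ.comp f) x = 0
  rw [show ptMap φ (Algebra.TensorProduct.map (AlgHom.id Ω Ω) f x) = ptMap (φ.comp f) x from ?_]
  induction x using TensorProduct.induction_on with
  | zero => simp
  | add a b ha hb => simp only [map_add, ha, hb]
  | tmul c a => simp [ptMap_tmul]

theorem ptSpec_injective : Function.Injective (ptSpec : (A →ₐ[R] Ω) → _) := by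
  intro φ ψ h
  ext a
  have h0 : ptMap φ (1 ⊗ₜ a - φ a ⊗ₜ 1) = 0 := by simp [map_sub, ptMap_tmul]
  have h1 : ptMap ψ (1 ⊗ₜ a - φ a ⊗ₜ 1) = 0 := (mem_ptSpec ψ _).mp (h ▸ (mem_ptSpec φ _).mpr h0)
  simp [map_sub, ptMap_tmul, sub_eq_zero] at h1
  exact h1.symm

theorem ptSpec_bijective [IsAlgClosed Ω] [Module.Finite R A] :
    Function.Bijective (ptSpec : (A →ₐ[R] Ω) → PrimeSpectrum (Ω ⊗[R] A)) := by
  refine ⟨ptSpec_injective, fun P => ?_⟩
  haveI : Module.Finite Ω ((Ω ⊗[R] A) ⧸ P.asIdeal) :=
    Module.Finite.of_surjective (Ideal.Quotient.mkₐ Ω P.asIdeal).toLinearMap Ideal.Quotient.mk_surjective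
  haveI : Algebra.IsIntegral Ω ((Ω ⊗[R] A) ⧸ P.asIdeal) := Algebra.IsIntegral.of_finite _ _
  let e := AlgEquiv.ofBijective (Algebra.ofId Ω ((Ω ⊗[R] A) ⧸ P.asIdeal))
    IsAlgClosed.algebraMap_bijective_of_isIntegral
  let Φ : Ω ⊗[R] A →ₐ[Ω] Ω := e.symm.toAlgHom.comp (Ideal.Quotient.mkₐ Ω P.asIdeal)
  refine ⟨(Φ.restrictScalars R).comp Algebra.TensorProduct.includeRight, PrimeSpectrum.ext (Ideal.ext fun x => ?_)⟩
  rw [mem_ptSpec, show ptMap ((Φ.restrictScalars R).comp Algebra.TensorProduct.includeRight) x = Φ x from ?_]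
  · show e.symm (Ideal.Quotient.mk P.asIdeal x) = 0 ↔ _
    rw [map_eq_zero_iff _ e.symm.injective, Ideal.Quotient.eq_zero_iff_mem]
  · induction x using TensorProduct.induction_on with
    | zero => simp
    | add a b ha hb => simp only [map_add, ha, hb]
    | tmul c a =>
      rw [ptMap_tmul, show c ⊗ₜ[R] a = c • ((1 : Ω) ⊗ₜ[R] a) by simp [TensorProduct.smul_tmul'], map_smul]
      rfl

theorem card_spec_eq_rankAtStalk [IsAlgClosed Ω] [Module.Finite R A] [Algebra.Etale R A] :
    Nat.card (PrimeSpectrum (Ω ⊗[R] A)) =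
      Module.rankAtStalk (R := R) A ⟨RingHom.ker (algebraMap R Ω), RingHom.ker_isPrime _⟩ := by
  haveI : Module.Finite Ω (Ω ⊗[R] A) := inferInstance
  haveI : Finite (PrimeSpectrum (Ω ⊗[R] A)) :=
    haveI : IsArtinianRing (Ω ⊗[R] A) := IsArtinianRing.of_finite Ω _
    inferInstance
  haveI := Fintype.ofFinite (PrimeSpectrum (Ω ⊗[R] A))
  have h1 : Module.finrank Ω (Ω ⊗[R] A) = Nat.card (PrimeSpectrum (Ω ⊗[R] A)) := by
    rw [(Algebra.FormallyEtale.equivPiOfIsSepClosed Ω (Ω ⊗[R] A)).toLinearEquiv.finrank_eq,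
      Module.finrank_pi, Nat.card_eq_fintype_card]
  have h2 := congr_fun (Module.rankAtStalk_eq_finrank_of_free (R := Ω) (M := Ω ⊗[R] A))
    (⟨⊥, Ideal.isPrime_bot⟩ : PrimeSpectrum Ω)
  rw [Module.rankAtStalk_baseChange] at h2
  rw [← h1, ← (show _ = Module.finrank Ω (Ω ⊗[R] A) from h2)]
  congr 1

theorem exists_extension [IsAlgClosed Ω] [Module.Finite R A] (f : B →ₐ[R] A)
    (hf : Function.Injective f) (φ : B →ₐ[R] Ω) : ∃ ψ : A →ₐ[R] Ω, ψ.comp f = φ := by
  letI : Algebra B A := f.toRingHom.toAlgebra
  letI : Algebra B Ω := φ.toRingHom.toAlgebra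
  haveI : IsScalarTower R B A := IsScalarTower.of_algebraMap_eq fun r => (f.commutes r).symm
  haveI : IsScalarTower R B Ω := IsScalarTower.of_algebraMap_eq fun r => (φ.commutes r).symm
  haveI : Module.Finite B A := Module.Finite.of_restrictScalars_finite R B A
  haveI : Algebra.IsIntegral B A := Algebra.IsIntegral.of_finite B A
  let p := RingHom.ker (algebraMap B Ω)
  haveI : p.IsPrime := RingHom.ker_isPrime _
  obtain ⟨⟨P, hPp⟩, hP⟩ := RingHom.IsIntegral.comap_surjective (f := algebraMap B A) Algebra.IsIntegral.isIntegral hf ⟨p, inferInstance⟩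
  haveI : P.IsPrime := hPp
  replace hP : P.comap (algebraMap B A) = p := congr_arg PrimeSpectrum.asIdeal hP
  letI : Algebra (B ⧸ p) (A ⧸ P) := (Ideal.quotientMap P (algebraMap B A) hP.ge).toAlgebra
  letI : Algebra (B ⧸ p) Ω := (RingHom.kerLift (algebraMap B Ω)).toAlgebra
  haveI : IsScalarTower B (B ⧸ p) (A ⧸ P) := IsScalarTower.of_algebraMap_eq fun _ => rfl
  haveI : Algebra.IsIntegral B (A ⧸ P) := Algebra.IsIntegral.of_finite B _
  haveI : Algebra.IsIntegral (B ⧸ p) (A ⧸ P) := Algebra.IsIntegral.tower_top B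
  haveI : FaithfulSMul (B ⧸ p) (A ⧸ P) := (faithfulSMul_iff_algebraMap_injective _ _).mpr
    (Ideal.quotientMap_injective' (h := hP.le))
  haveI : FaithfulSMul (B ⧸ p) Ω := (faithfulSMul_iff_algebraMap_injective _ _).mpr
    (RingHom.kerLift_injective _)
  haveI : Module.IsTorsionFree (B ⧸ p) (A ⧸ P) := inferInstance
  haveI : Algebra.IsAlgebraic (B ⧸ p) (A ⧸ P) := Algebra.IsIntegral.isAlgebraic
  let g : A ⧸ P →ₐ[B ⧸ p] Ω := IsAlgClosed.lift
  let ψ : A →+* Ω := g.toRingHom.comp (Ideal.Quotient.mk P)
  have hψ : ∀ b, ψ (f b) = φ b := fun b => g.commutes (Ideal.Quotient.mk p b)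
  exact ⟨⟨ψ, fun r => by
    show ψ (algebraMap R A r) = _
    rw [← f.commutes, hψ, φ.commutes]⟩, AlgHom.ext hψ⟩

theorem exists_orbit_eq [Module.Finite R A] {G : Type*} [Group G] [Finite G]
    (σ : G → (A →ₐ[R] A)) (hmul : ∀ g g' a, σ (g * g') a = σ g (σ g' a)) (h1 : ∀ a, σ 1 a = a)
    (φ φ' : A →ₐ[R] Ω) (h : ∀ a, (∀ g, σ g a = a) → φ a = φ' a) :
    ∃ g, φ' = φ.comp (σ g) := by
  classical
  haveI := Fintype.ofFinite G
  obtain ⟨n, v, hv⟩ := Module.Finite.exists_fin (R := R) (M := A)
  let a : Polynomial A := ∑ i : Fin n, Polynomial.C (v i) * Polynomial.X ^ (i : ℕ)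
  let S : G → (Polynomial A →+* Polynomial A) := fun g => Polynomial.mapRingHom (σ g).toRingHom
  let P : Polynomial (Polynomial A) := ∏ g : G, (Polynomial.X - Polynomial.C (S g a))
  have hinv : ∀ (g : G) (m k : ℕ), σ g ((P.coeff m).coeff k) = (P.coeff m).coeff k := by
    intro g m k
    have hP : P.map (S g) = P := by
      simp only [P, Polynomial.map_prod, Polynomial.map_sub, Polynomial.map_X, Polynomial.map_C]
      have hS : ∀ g', S g (S g' a) = S (g * g') a := fun g' => Polynomial.ext fun j => by
        simp only [S, Polynomial.coe_mapRingHom, Polynomial.coeff_map]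
        exact (hmul g g' _).symm
      simp only [hS]
      exact Fintype.prod_equiv (Equiv.mulLeft g) _ _ fun _ => rfl
    conv_rhs => rw [← hP]
    simp only [S, Polynomial.coeff_map, Polynomial.coe_mapRingHom]
    rfl
  let F := Polynomial.mapRingHom φ.toRingHom
  let F' := Polynomial.mapRingHom φ'.toRingHom
  have hPF : P.map F' = P.map F := Polynomial.ext fun m => Polynomial.ext fun k => by
    simp only [F, F', Polynomial.coeff_map, Polynomial.coe_mapRingHom]
    exact (h _ fun g => hinv g m k).symm
  have h0 : (P.map F).eval (F' a) = 0 := by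
    rw [← hPF, Polynomial.eval_map, Polynomial.eval₂_hom]
    have : P.eval a = 0 := by
      simp only [P, Polynomial.eval_prod]
      refine Finset.prod_eq_zero (Finset.mem_univ 1) ?_
      have : S 1 a = a := Polynomial.ext fun j => by
        simp only [S, Polynomial.coe_mapRingHom, Polynomial.coeff_map]
        exact h1 _
      simp [this]
    rw [this, map_zero]
  simp only [P, Polynomial.map_prod, Polynomial.map_sub, Polynomial.map_X, Polynomial.map_C,
    Polynomial.eval_prod, Polynomial.eval_sub, Polynomial.eval_X, Polynomial.eval_C] at h0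
  obtain ⟨g, -, hg⟩ := Finset.prod_eq_zero_iff.mp h0
  refine ⟨g, ?_⟩
  have hlin : φ'.toLinearMap = (φ.comp (σ g)).toLinearMap := by
    refine LinearMap.ext_on_range (v := v) hv fun i => ?_
    have hc := congr_arg (fun q => Polynomial.coeff q (i : ℕ)) (sub_eq_zero.mp hg)
    simp only [F, F', S, Polynomial.coe_mapRingHom, Polynomial.coeff_map] at hc
    have hai : a.coeff (i : ℕ) = v i := by
      simp [a, Polynomial.finset_sum_coeff, Fin.val_inj]
    rw [hai] at hc
    exact hc
  exact AlgHom.ext fun x => LinearMap.congr_fun hlin x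

end Points

section Invariants

/-- the invariants of a family of endomorphisms -/
def fixedSub {R A : Type u} [CommRing R] [CommRing A] [Algebra R A] {G : Type*}
    (σ : G → (A →ₐ[R] A)) : Subalgebra R A :=
  ⨅ g, AlgHom.equalizer (σ g) (AlgHom.id R A)

theorem mem_fixedSub {R A : Type u} [CommRing R] [CommRing A] [Algebra R A] {G : Type*}
    {σ : G → (A →ₐ[R] A)} {a : A} : a ∈ fixedSub σ ↔ ∀ g, σ g a = a := by
  simp [fixedSub, Algebra.mem_iInf]

theorem etale_fixedSub_pi {R : Type u} [CommRing R] {G : Type*} [Group G] [Finite G] {n : ℕ}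
    (τ : G → ((Fin n → R) →ₐ[R] (Fin n → R))) (hmul : ∀ g g' a, τ (g * g') a = τ g (τ g' a))
    (h1 : ∀ a, τ 1 a = a) : Algebra.Etale R (fixedSub τ) := by
  classical
  haveI := Fintype.ofFinite G
  let δ : Fin n → Fin n → R := fun i => Pi.single i 1
  let e' : Fin n → Fin n → R := fun i => 1 - ∏ g : G, (1 - τ g (δ i))
  have hδ : ∀ i, IsIdempotentElem (δ i) := fun i => by simp [δ, IsIdempotentElem, ← Pi.single_mul]
  have hinv : ∀ i, e' i ∈ fixedSub τ := fun i => mem_fixedSub.mpr fun h => by
    simp only [e', map_sub, map_one, map_prod, ← hmul]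
    exact congr_arg (1 - ·) (Fintype.prod_equiv (Equiv.mulLeft h) _ _ fun _ => rfl)
  have he' : ∀ i, IsIdempotentElem (e' i) := fun i =>
    IsIdempotentElem.one_sub (by
      show _ * _ = _
      rw [← Finset.prod_mul_distrib]
      exact Finset.prod_congr rfl fun g _ => ((hδ i).map (τ g)).one_sub.eq)
  have he'ii : ∀ i, e' i i = 1 := fun i => by
    simp only [e', Pi.sub_apply, Pi.one_apply, Finset.prod_apply]
    rw [Finset.prod_eq_zero (Finset.mem_univ 1) (by simp [h1, δ]), sub_zero]
  have hloc : ∀ i x, x ∈ fixedSub τ → x * e' i = x i • e' i := by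
    intro i x hx
    have hy : ∀ g, (x - x i • 1) * τ g (δ i) = 0 := by
      intro g
      have h2 : x * δ i = x i • δ i := funext fun j => by
        by_cases hj : j = i
        · subst hj; simp [δ]
        · simp [δ, Pi.single_eq_of_ne hj]
      calc (x - x i • 1) * τ g (δ i) = τ g ((x - x i • 1) * δ i) := by
            rw [map_mul, map_sub, mem_fixedSub.mp hx g, map_smul, map_one]
        _ = 0 := by rw [sub_mul, smul_mul_assoc, one_mul, h2, sub_self, map_zero]
    have hprod : ∀ s : Finset G, (x - x i • 1) * ∏ g ∈ s, (1 - τ g (δ i)) = x - x i • 1 := by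
      intro s
      induction s using Finset.induction with
      | empty => simp
      | insert g s hg ih =>
        rw [Finset.prod_insert hg, mul_left_comm, ih, sub_mul, one_mul, mul_comm, hy g, sub_zero]
    have : (x - x i • 1) * e' i = 0 := by rw [mul_sub, mul_one, hprod, sub_self]
    rwa [sub_mul, smul_mul_assoc, one_mul, sub_eq_zero] at this
  let d : Fin n → Fin n → R := fun i => e' i * ∏ j ∈ Finset.univ.filter (· < i), (1 - e' j)
  have hdinv : ∀ i, d i ∈ fixedSub τ := fun i =>
    Subalgebra.mul_mem _ (hinv i) (Subalgebra.prod_mem _ fun j _ => Subalgebra.sub_mem _ (Subalgebra.one_mem _) (hinv j))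
  have hdd : ∀ i j, i < j → d i * d j = 0 := fun i j hij => by
    have hmem : i ∈ Finset.univ.filter (· < j) := by simp [hij]
    simp only [d]
    rw [← Finset.mul_prod_erase _ _ hmem]
    calc _ = (e' i * (1 - e' i)) * ((∏ k ∈ Finset.univ.filter (· < i), (1 - e' k)) * e' j *
          ∏ k ∈ (Finset.univ.filter (· < j)).erase i, (1 - e' k)) := by ring
      _ = 0 := by rw [(he' i).mul_one_sub_self, zero_mul]
  have hdi : ∀ i, IsIdempotentElem (d i) := fun i => by
    show _ * _ = _
    rw [mul_mul_mul_comm, (he' i).eq, ← Finset.prod_mul_distrib]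
    exact congr_arg _ (Finset.prod_congr rfl fun j _ => (he' j).one_sub.eq)
  have hd0 : ∀ i j, i ≠ j → d i * d j = 0 := fun i j hij => by
    rcases lt_or_gt_of_ne hij with hlt | hlt
    · exact hdd i j hlt
    · rw [mul_comm]; exact hdd j i hlt
  have hsum : ∑ i, d i = 1 := by
    have : 1 - ∑ i, d i = ∏ i, (1 - e' i) := (Finset.prod_one_sub_ordered Finset.univ e').symm
    have h0 : ∏ i, (1 - e' i) = 0 := funext fun j => by
      rw [Finset.prod_apply]
      exact Finset.prod_eq_zero (Finset.mem_univ j) (by simp [he'ii])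
    rw [h0, sub_eq_zero] at this
    exact this.symm
  let Φ : (Fin n → R) →ₐ[R] fixedSub τ :=
    { toFun := fun r => ⟨∑ i, r i • d i, Subalgebra.sum_mem _ fun i _ => Subalgebra.smul_mem _ (hdinv i) _⟩
      map_one' := Subtype.ext (by simp [hsum])
      map_mul' := fun r r' => Subtype.ext (by
        show ∑ i, (r * r') i • d i = (∑ i, r i • d i) * ∑ i, r' i • d i
        rw [Finset.sum_mul_sum]
        refine Finset.sum_congr rfl fun i _ => ?_
        rw [Finset.sum_eq_single i]
        · rw [smul_mul_smul_comm, (hdi i).eq]; rfl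
        · exact fun j _ hji => by rw [smul_mul_smul_comm, hd0 i j (Ne.symm hji), smul_zero]
        · simp)
      map_zero' := Subtype.ext (by simp)
      map_add' := fun r r' => Subtype.ext (by simp [add_smul, Finset.sum_add_distrib])
      commutes' := fun c => Subtype.ext (by
        show ∑ i, c • d i = algebraMap R (Fin n → R) c
        rw [← Finset.smul_sum, hsum, Algebra.algebraMap_eq_smul_one]) }
  have hΦ : Function.Surjective Φ := by
    rintro ⟨x, hx⟩
    refine ⟨x, Subtype.ext ?_⟩
    show ∑ i, x i • d i = x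
    conv_rhs => rw [← mul_one x, ← hsum, Finset.mul_sum]
    refine Finset.sum_congr rfl fun i _ => ?_
    simp only [d]
    rw [← mul_assoc, hloc i x hx, smul_mul_assoc]
  let ε : Fin n → R := fun i => ∏ j, (1 - d i j)
  have hε : IsIdempotentElem ε := funext fun i => by
    show ε i * ε i = ε i
    simp only [ε]
    rw [← Finset.prod_mul_distrib]
    exact Finset.prod_congr rfl fun j _ => (IsIdempotentElem.one_sub (congr_fun (hdi i) j)).eq
  have hker : RingHom.ker Φ.toRingHom = Ideal.span {ε} := by
    refine le_antisymm (fun r hr => ?_) ?_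
    · have hr' : ∀ i j, r i * d i j = 0 := fun i j => by
        have h3 : (∑ k, r k • d k) = 0 := congr_arg Subtype.val hr
        have h4 : (∑ k, r k • d k) * d i = r i • d i := by
          rw [Finset.sum_mul, Finset.sum_eq_single i]
          · rw [smul_mul_assoc, (hdi i).eq]
          · exact fun k _ hk => by rw [smul_mul_assoc, hd0 k i hk, smul_zero]
          · simp
        rw [h3, zero_mul] at h4
        exact (congr_fun h4 j).symm
      refine Ideal.mem_span_singleton'.mpr ⟨r, funext fun i => ?_⟩
      show r i * ε i = r i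
      have : ∀ s : Finset (Fin n), r i * ∏ j ∈ s, (1 - d i j) = r i := by
        intro s
        induction s using Finset.induction with
        | empty => simp
        | insert j s hj ih =>
          rw [Finset.prod_insert hj, mul_left_comm, ih, sub_mul, one_mul, mul_comm, hr' i j, sub_zero]
      exact this _
    · rw [Ideal.span_singleton_le_iff_mem]
      refine Subtype.ext ?_
      show ∑ i, ε i • d i = 0
      refine Finset.sum_eq_zero fun i _ => funext fun j => ?_
      show ε i * d i j = 0
      simp only [ε]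
      rw [← Finset.mul_prod_erase _ _ (Finset.mem_univ j), mul_right_comm,
        (IsIdempotentElem.one_sub_mul_self (congr_fun (hdi i) j)), zero_mul]
  haveI := etale_quotient_idempotent (R := R) hε
  exact Algebra.Etale.of_equiv ((Ideal.quotientEquivAlgOfEq R hker.symm).trans
    (Ideal.quotientKerAlgEquivOfSurjective hΦ))

theorem etale_fixedSub {R A R' : Type u} [CommRing R] [CommRing A] [CommRing R'] [Algebra R A]
    [Algebra R R'] [Module.FaithfullyFlat R R'] {n : ℕ} (e : R' ⊗[R] A ≃ₐ[R'] (Fin n → R'))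
    {G : Type u} [Group G] [Finite G]
    (σ : G → (A →ₐ[R] A)) (hmul : ∀ g g' a, σ (g * g') a = σ g (σ g' a)) (h1 : ∀ a, σ 1 a = a) :
    Algebra.Etale R (fixedSub σ) := by
  classical
  haveI := Fintype.ofFinite G
  let τ : G → ((Fin n → R') →ₐ[R'] (Fin n → R')) := fun g =>
    (e.toAlgHom.comp (Algebra.TensorProduct.map (AlgHom.id R' R') (σ g))).comp e.symm.toAlgHom
  have hm : ∀ g g' (z : R' ⊗[R] A), Algebra.TensorProduct.map (AlgHom.id R' R') (σ (g * g')) z =
      Algebra.TensorProduct.map (AlgHom.id R' R') (σ g)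
        (Algebra.TensorProduct.map (AlgHom.id R' R') (σ g') z) := by
    intro g g' z
    induction z using TensorProduct.induction_on with
    | zero => simp
    | add p q hp hq => simp only [map_add, hp, hq]
    | tmul c x => simp [hmul]
  have hone : ∀ z : R' ⊗[R] A, Algebra.TensorProduct.map (AlgHom.id R' R') (σ 1) z = z := by
    intro z
    induction z using TensorProduct.induction_on with
    | zero => simp
    | add p q hp hq => simp only [map_add, hp, hq]
    | tmul c x => simp [h1]
  have hτm : ∀ g g' a, τ (g * g') a = τ g (τ g' a) := by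
    intro g g' a
    show e (Algebra.TensorProduct.map (AlgHom.id R' R') (σ (g * g')) (e.symm a)) =
      e (Algebra.TensorProduct.map (AlgHom.id R' R') (σ g)
        (e.symm (e (Algebra.TensorProduct.map (AlgHom.id R' R') (σ g') (e.symm a)))))
    rw [e.symm_apply_apply, hm]
  have hτ1 : ∀ a, τ 1 a = a := by
    intro a
    show e (Algebra.TensorProduct.map (AlgHom.id R' R') (σ 1) (e.symm a)) = a
    rw [hone, e.apply_symm_apply]
  haveI := etale_fixedSub_pi τ hτm hτ1
  let F : R' ⊗[R] fixedSub σ →ₐ[R'] R' ⊗[R] A :=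
    Algebra.TensorProduct.map (AlgHom.id R' R') (fixedSub σ).val
  let L : A →ₗ[R] (G → A) := LinearMap.pi fun g => (σ g).toLinearMap - LinearMap.id
  have hex : Function.Exact (fixedSub σ).val.toLinearMap L := by
    intro a
    constructor
    · intro ha
      exact ⟨⟨a, mem_fixedSub.mpr fun g => sub_eq_zero.mp (congr_fun ha g)⟩, rfl⟩
    · rintro ⟨⟨b, hb⟩, rfl⟩
      exact funext fun g => sub_eq_zero.mpr (mem_fixedSub.mp hb g)
  have hFe : ∀ z, F z = (fixedSub σ).val.toLinearMap.lTensor R' z := by
    intro z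
    induction z using TensorProduct.induction_on with
    | zero => simp
    | add p q hp hq => simp only [map_add, hp, hq]
    | tmul c x => simp [F]
  have hFinj : Function.Injective F := fun z w h => by
    rw [hFe, hFe] at h
    exact Module.Flat.lTensor_preserves_injective_linearMap (fixedSub σ).val.toLinearMap
      Subtype.val_injective h
  have hFrange : ∀ y, y ∈ F.range ↔ ∀ g, Algebra.TensorProduct.map (AlgHom.id R' R') (σ g) y = y := by
    intro y
    constructor
    · rintro ⟨z, rfl⟩ g
      induction z using TensorProduct.induction_on with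
      | zero => simp
      | add p q hp hq => simp only [AlgHom.toRingHom_eq_coe, RingHom.coe_coe, map_add] at hp hq ⊢; rw [hp, hq]
      | tmul c x => simp [F, mem_fixedSub.mp x.2 g]
    · intro hy
      have h0 : L.lTensor R' y = 0 := by
        apply (TensorProduct.piRight R R R' fun _ : G => A).injective
        rw [map_zero]
        funext g
        have : ∀ z, TensorProduct.piRight R R R' (fun _ : G => A) (L.lTensor R' z) g =
            Algebra.TensorProduct.map (AlgHom.id R' R') (σ g) z - z := by
          intro z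
          induction z using TensorProduct.induction_on with
          | zero => simp
          | add p q hp hq => simp only [map_add, Pi.add_apply, hp, hq]; abel
          | tmul c x => simp [L, tmul_sub]
        rw [this, hy g, sub_self]
        rfl
      obtain ⟨z, hz⟩ := (Module.Flat.lTensor_exact R' hex y).mp h0
      exact ⟨z, (hFe z).trans hz⟩
  let E : R' ⊗[R] fixedSub σ →ₐ[R'] fixedSub τ :=
    (e.toAlgHom.comp F).codRestrict (fixedSub τ) fun z => mem_fixedSub.mpr fun g => by
      show e (Algebra.TensorProduct.map (AlgHom.id R' R') (σ g) (e.symm (e (F z)))) = e (F z)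
      rw [e.symm_apply_apply, (hFrange (F z)).mp ⟨z, rfl⟩ g]
  have hE : Function.Bijective E := by
    refine ⟨fun z w h => hFinj (e.injective (congr_arg Subtype.val h)), ?_⟩
    rintro ⟨x, hx⟩
    obtain ⟨z, hz⟩ := (hFrange (e.symm x)).mpr fun g => e.injective
      ((mem_fixedSub.mp hx g).trans (e.apply_symm_apply x).symm)
    refine ⟨z, Subtype.ext ?_⟩
    show e (F z) = x
    rw [show F z = e.symm x from hz, e.apply_symm_apply]
  haveI : Algebra.Etale R' (R' ⊗[R] fixedSub σ) :=
    Algebra.Etale.of_equiv (AlgEquiv.ofBijective E hE).symm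
  exact Algebra.Etale.of_etale_tensorProduct_of_faithfullyFlat (T := R')

end Invariants

end Groth.Agent.H13SchFin
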