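import Groth.Agent.H13SchFin.Cat
import Groth.Agent.H13SchFin.EtInv
import Groth.Agent.H13SchFin.Connected
import Mathlib.CategoryTheory.Galois.Basic
import Mathlib.CategoryTheory.Limits.Constructions.FiniteProductsOfBinaryProducts
import Mathlib.CategoryTheory.Limits.Shapes.Opposites.Pullbacks
import Mathlib.CategoryTheory.Limits.Shapes.Opposites.Products
import Mathlib.CategoryTheory.Limits.Preserves.Shapes.Terminal
import Mathlib.CategoryTheory.Limits.Preserves.Shapes.BinaryProducts
import Mathlib.CategoryTheory.Limits.Preserves.Shapes.Pullbacks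

/-! The fibre functor of étale covers. -/

set_option autoImplicit false

open TensorProduct CategoryTheory CategoryTheory.Limits

namespace Groth.Agent.H13SchFin

open SchFin

universe u

variable {X : RSpace.{u}}

section Iso

theorem isIso_of_bijective {A B : FEt X} (f : A ⟶ B)
    (hf : ∀ p, Function.Bijective (f.hom.app p)) : IsIso f := by
  let g : B ⟶ A := InducedCategory.homMk
    ⟨fun p => (AlgEquiv.ofBijective _ (hf p)).symm.toAlgHom, fun {p q} h b => by
      apply (hf q).1
      show f.hom.app q (A.obj.res h ((AlgEquiv.ofBijective _ (hf p)).symm b)) =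
        (AlgEquiv.ofBijective _ (hf q)) ((AlgEquiv.ofBijective _ (hf q)).symm (B.obj.res h b))
      rw [← f.hom.compat, AlgEquiv.apply_symm_apply]
      exact congr_arg _ ((AlgEquiv.ofBijective _ (hf p)).apply_symm_apply b)⟩
  exact ⟨g, fet_ext fun p a => (AlgEquiv.ofBijective _ (hf p)).symm_apply_apply a,
    fet_ext fun p b => (AlgEquiv.ofBijective _ (hf p)).apply_symm_apply b⟩

theorem isIso_of_injective_of_rank (hX : X.IsFinSp) {A B : FEt X} (f : A ⟶ B)
    (hf : ∀ p : X.pt, Function.Injective (f.hom.app p))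
    (hdeg : ∀ (p : X.pt) (P : PrimeSpectrum (X.ring p)),
      Module.rankAtStalk (A.obj.carrier p) P = Module.rankAtStalk (B.obj.carrier p) P) :
    IsIso f := by
  refine isIso_of_bijective f fun p => ?_
  haveI := hX.1 p
  haveI := (A.property.2 p).1
  haveI := (A.property.2 p).2
  haveI := (B.property.2 p).1
  haveI := (B.property.2 p).2
  exact bijective_of_injective_of_rankAtStalk_eq (f.hom.app p) (hf p) (hdeg p)

theorem rank_constant (hX : X.IsFinSp) (hwc : X.IsWellConnected) (A : FEt X) (p q : X.pt)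
    (P : PrimeSpectrum (X.ring p)) (Q : PrimeSpectrum (X.ring q)) :
    Module.rankAtStalk (A.obj.carrier p) P = Module.rankAtStalk (A.obj.carrier q) Q := by
  obtain ⟨⟨-, ht⟩, hp⟩ := isWellConnected_iff.mp hwc
  have hconst : ∀ (a : X.pt) (P P' : PrimeSpectrum (X.ring a)),
      Module.rankAtStalk (A.obj.carrier a) P = Module.rankAtStalk (A.obj.carrier a) P' := by
    intro a P P'
    haveI := hX.1 a
    haveI := hp a
    haveI := (A.property.2 a).1
    haveI := (A.property.2 a).2
    haveI : Module.FinitePresentation (X.ring a) (A.obj.carrier a) :=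
      Module.finitePresentation_of_finite _ _
    exact (Module.isLocallyConstant_rankAtStalk (R := X.ring a) (M := A.obj.carrier a)).apply_eq_of_preconnectedSpace P P'
  have hrel : ∀ (a b : X.pt), Relation.EqvGen (fun a b : X.pt => a ≤ b) a b → ∀ (P : PrimeSpectrum (X.ring a)) (Q : PrimeSpectrum (X.ring b)),
      Module.rankAtStalk (R := X.ring a) (A.obj.carrier a) P = Module.rankAtStalk (R := X.ring b) (A.obj.carrier b) Q := by
    intro a b h
    induction h with
    | rel a b h =>
      intro P Q
      letI := resAlg h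
      haveI := (A.property.2 a).1
      haveI := (A.property.2 a).2
      have hb := (qcoh_iff _).mp A.property.1 a b h
      let e : X.ring b ⊗[X.ring a] A.obj.carrier a ≃ₗ[X.ring b] A.obj.carrier b :=
        { AddEquiv.ofBijective _ hb with map_smul' := liftSMul_smul _ _ }
      rw [← Module.rankAtStalk_eq_of_equiv e, Module.rankAtStalk_baseChange]
      exact hconst a _ _
    | refl a => exact hconst a
    | symm a b _ ih => exact fun P Q => (ih Q P).symm
    | trans a b c _ _ ih ih' =>
      intro P Q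
      haveI := hp b
      obtain ⟨R⟩ := (inferInstance : Nonempty (PrimeSpectrum (X.ring b)))
      exact (ih P R).trans (ih' R Q)
  exact hrel p q (ht p q) P Q

end Iso

section Fibre

variable {Ω : Type u} [Field Ω] [IsAlgClosed Ω] (ξ : GeomPt X Ω)

/-- the field as an algebra over the base ring -/
@[reducible] def baseAlg : Algebra (X.ring ξ.base) Ω := ξ.toField.toAlgebra

attribute [local instance] baseAlg

/-- points of an étale cover over a geometric point -/
abbrev Pts (A : FEt X) : Type u := A.obj.carrier ξ.base →ₐ[X.ring ξ.base] Ω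

/-- the point as an element of the fibre -/
noncomputable def ptFib (A : FEt X) (φ : Pts ξ A) : ξ.Fib A.obj := ptSpec φ

theorem ptFib_bijective (A : FEt X) : Function.Bijective (ptFib ξ A) := by
  haveI := (A.property.2 ξ.base).1
  exact ptSpec_bijective

theorem fibMap_ptFib {A B : FEt X} (f : A ⟶ B) (φ : Pts ξ B) :
    ξ.fibMap f.hom (ptFib ξ B φ) = ptFib ξ A (φ.comp (f.hom.app ξ.base)) :=
  ptSpec_comap (f.hom.app ξ.base) φ

theorem fmap_apply {A B : (FEt X)ᵒᵖ} (f : A ⟶ B) (x : ξ.Fib A.unop.obj) :
    ξ.fibFunctor.map f x = ξ.fibMap f.unop.hom x := rfl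

theorem card_fib (A : FEt X) :
    Nat.card (ξ.Fib A.obj) = Module.rankAtStalk (R := X.ring ξ.base) (A.obj.carrier ξ.base)
      ⟨RingHom.ker ξ.toField, RingHom.ker_isPrime _⟩ := by
  haveI := (A.property.2 ξ.base).1
  haveI := (A.property.2 ξ.base).2
  exact card_spec_eq_rankAtStalk (R := X.ring ξ.base) (A := A.obj.carrier ξ.base) (Ω := Ω)

theorem fibMap_injective_of_surjective {A B : FEt X} (f : A ⟶ B)
    (hf : Function.Surjective (f.hom.app ξ.base)) : Function.Injective (ξ.fibMap f.hom) := by
  intro x y h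
  obtain ⟨φ, rfl⟩ := (ptFib_bijective ξ B).2 x
  obtain ⟨ψ, rfl⟩ := (ptFib_bijective ξ B).2 y
  rw [fibMap_ptFib, fibMap_ptFib] at h
  refine congr_arg _ (AlgHom.ext fun b => ?_)
  obtain ⟨a, rfl⟩ := hf b
  exact AlgHom.congr_fun ((ptFib_bijective ξ A).1 h) a

theorem fibMap_surjective_of_injective {A B : FEt X} (f : A ⟶ B)
    (hf : Function.Injective (f.hom.app ξ.base)) : Function.Surjective (ξ.fibMap f.hom) := by
  intro x
  obtain ⟨φ, rfl⟩ := (ptFib_bijective ξ A).2 x
  haveI := (B.property.2 ξ.base).1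
  obtain ⟨ψ, hψ⟩ := exists_extension (f.hom.app ξ.base) hf φ
  exact ⟨ptFib ξ B ψ, by rw [fibMap_ptFib, hψ]⟩

theorem isIso_of_fibMap_bijective (hX : X.IsFinSp) (hwc : X.IsWellConnected) {A B : FEt X}
    (f : A ⟶ B) (hbij : Function.Bijective (ξ.fibMap f.hom)) : IsIso f := by
  obtain ⟨Q, g, h, hgh, hg, hh⟩ := exists_factor hX f
  have hcomp : ξ.fibMap f.hom = ξ.fibMap g.hom ∘ ξ.fibMap h.hom := by
    rw [← hgh]; exact ξ.fibMap_comp g.hom h.hom
  have hgb : Function.Bijective (ξ.fibMap g.hom) :=
    ⟨fibMap_injective_of_surjective ξ g (hg _), Function.Surjective.of_comp (hcomp ▸ hbij.2)⟩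
  have hrk : ∀ (C D : FEt X), Nat.card (ξ.Fib C.obj) = Nat.card (ξ.Fib D.obj) → ∀ (p : X.pt) (P : PrimeSpectrum (X.ring p)),
      Module.rankAtStalk (R := X.ring p) (C.obj.carrier p) P = Module.rankAtStalk (R := X.ring p) (D.obj.carrier p) P := by
    intro C D hCD p P
    rw [rank_constant hX hwc C p ξ.base P ⟨RingHom.ker ξ.toField, RingHom.ker_isPrime _⟩,
      rank_constant hX hwc D p ξ.base P ⟨RingHom.ker ξ.toField, RingHom.ker_isPrime _⟩,
      ← card_fib, ← card_fib, hCD]
  have hAQ := hrk Q A (Nat.card_congr (Equiv.ofBijective _ hgb))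
  obtain ⟨D, π, hπ, ⟨hlim⟩⟩ := exists_directFactor hX g hg
  let e := hlim.conePointUniqueUpToIso (prodIsLimit Q D)
  have hginj : ∀ p, Function.Injective (g.hom.app p) := by
    intro p
    haveI := hX.1 p
    haveI := (A.property.2 p).1
    haveI := (A.property.2 p).2
    haveI := (Q.property.2 p).1
    haveI := (Q.property.2 p).2
    haveI := (D.property.2 p).1
    haveI := (D.property.2 p).2
    have hb : Function.Bijective (e.hom.hom.app p) := by
      refine Function.bijective_iff_has_inverse.mpr ⟨e.inv.hom.app p, fun a => ?_, fun a => ?_⟩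
      · exact congr_arg (fun t : A ⟶ A => t.hom.app p a) e.hom_inv_id
      · exact congr_arg (fun t : prodFEt Q D ⟶ _ => t.hom.app p a) e.inv_hom_id
    have hr : Module.rankAtStalk (R := X.ring p) (D.obj.carrier p) = 0 := by
      funext P
      have h1 := congr_fun (Module.rankAtStalk_eq_of_equiv (AlgEquiv.ofBijective _ hb).toLinearEquiv) P
      have h2 := congr_fun (Module.rankAtStalk_prod (R := X.ring p) (Q.obj.carrier p) (D.obj.carrier p)) P
      have h3 : Module.rankAtStalk (R := X.ring p) (Q.obj.carrier p × D.obj.carrier p) P =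
          Module.rankAtStalk (R := X.ring p) (Q.obj.carrier p) P := by
        exact h1.symm.trans (hAQ p P).symm
      rw [h2, Pi.add_apply] at h3
      simpa using h3
    haveI := Module.rankAtStalk_eq_zero_iff_subsingleton.mp hr
    intro a a' haa
    apply hb.1
    refine Prod.ext ?_ (Subsingleton.elim (α := D.obj.carrier p) _ _)
    have e1 : e.hom ≫ prodFst Q D = g :=
      hlim.conePointUniqueUpToIso_hom_comp (prodIsLimit Q D) ⟨WalkingPair.left⟩
    have := haa
    rw [← e1] at this
    exact this
  refine isIso_of_injective_of_rank hX f (fun p => ?_) (hrk A B (Nat.card_congr (Equiv.ofBijective _ hbij)).symm)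
  rw [← hgh]
  exact (hh p).comp (hginj p)

theorem fibFunctor_reflects (hX : X.IsFinSp) (hwc : X.IsWellConnected) :
    ξ.fibFunctor.ReflectsIsomorphisms := by
  refine ⟨fun {A B} f hf => ?_⟩
  have hb : Function.Bijective (ξ.fibMap f.unop.hom) := by
    let e := FintypeCat.equivEquivIso.symm (asIso (ξ.fibFunctor.map f))
    exact e.bijective
  haveI := isIso_of_fibMap_bijective ξ hX hwc f.unop hb
  exact ⟨⟨(inv f.unop).op, Quiver.Hom.unop_inj (IsIso.inv_hom_id f.unop),
    Quiver.Hom.unop_inj (IsIso.hom_inv_id f.unop)⟩⟩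

theorem preservesTerminal : PreservesLimitsOfShape (Discrete PEmpty.{1}) ξ.fibFunctor := by
  haveI : PreservesLimit (Functor.empty.{0} (FEt X)ᵒᵖ) ξ.fibFunctor := by
    refine preservesLimit_of_preserves_limit_cone (strIsInitial X).op
      ((isLimitMapConeEmptyConeEquiv _ _).symm ?_)
    have hU : ∀ x : ξ.Fib (strFEt X).obj, x = ptFib ξ (strFEt X) (Algebra.ofId _ _) := fun x => by
      obtain ⟨φ, rfl⟩ := (ptFib_bijective ξ (strFEt X)).2 x
      exact congr_arg _ (AlgHom.ext fun a => φ.commutes a)
    exact IsTerminal.ofUniqueHom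
      (fun T => FintypeCat.homMk fun _ => ptFib ξ (strFEt X) (Algebra.ofId _ _))
      (fun T m => FintypeCat.hom_ext _ _ fun t => hU _)
  exact preservesLimitsOfShape_pempty_of_preservesTerminal _

theorem preservesPullbacks : PreservesLimitsOfShape WalkingCospan ξ.fibFunctor := by
  constructor
  intro K
  suffices ∀ {C A B : FEt X} (f : C ⟶ A) (g : C ⟶ B), PreservesLimit (cospan g.op f.op) ξ.fibFunctor by
    haveI : PreservesLimit (cospan (K.map WalkingCospan.Hom.inl) (K.map WalkingCospan.Hom.inr)) ξ.fibFunctor :=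
      this (K.map WalkingCospan.Hom.inr).unop (K.map WalkingCospan.Hom.inl).unop
    exact preservesLimit_of_iso_diagram _ (diagramIsoCospan K).symm
  intro C A B f g
  obtain ⟨Q, π, hπ, hker, w, ⟨hcol⟩⟩ := exists_pushout f g
  have hpb := (IsPushout.of_isColimit hcol).op
  refine preservesLimit_of_preserves_limit_cone hpb.isLimit
    ((PullbackCone.isLimitMapConeEquiv _ _).symm ?_)
  let iA := (tensorL A B ≫ π)
  let iB := (tensorR A B ≫ π)
  have hbij : ∀ (a : ξ.Fib B.obj) (b : ξ.Fib A.obj), ξ.fibMap g.hom a = ξ.fibMap f.hom b →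
      ∃! q : ξ.Fib Q.obj, ξ.fibMap iB.hom q = a ∧ ξ.fibMap iA.hom q = b := by
    intro a b hab
    obtain ⟨ψ, rfl⟩ := (ptFib_bijective ξ B).2 a
    obtain ⟨φ, rfl⟩ := (ptFib_bijective ξ A).2 b
    rw [fibMap_ptFib, fibMap_ptFib] at hab
    have hab' := (ptFib_bijective ξ C).1 hab
    let χ := Algebra.TensorProduct.lift φ ψ fun _ _ => Commute.all _ _
    have hk : RingHom.ker (π.hom.app ξ.base).toRingHom ≤ RingHom.ker χ.toRingHom := by
      rw [hker, Ideal.span_le]
      rintro _ ⟨c, rfl⟩
      show χ (f.hom.app ξ.base c ⊗ₜ 1 - 1 ⊗ₜ g.hom.app ξ.base c) = 0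
      refine (map_sub χ _ _).trans (sub_eq_zero.mpr ?_)
      simp only [χ, Algebra.TensorProduct.lift_tmul, map_one, mul_one, one_mul]
      exact (AlgHom.congr_fun hab' c).symm
    let ω := AlgHom.liftOfSurjective (π.hom.app ξ.base) (hπ _) χ hk
    have hω : ∀ z, ω (π.hom.app ξ.base z) = χ z := fun z => AlgHom.liftOfSurjective_apply _ _ _ _ z
    refine ⟨ptFib ξ Q ω, ⟨?_, ?_⟩, ?_⟩
    · rw [fibMap_ptFib]
      refine congr_arg _ (AlgHom.ext fun x => ?_)
      show ω (π.hom.app ξ.base (1 ⊗ₜ x)) = _
      rw [hω]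
      simp [χ]
    · rw [fibMap_ptFib]
      refine congr_arg _ (AlgHom.ext fun x => ?_)
      show ω (π.hom.app ξ.base (x ⊗ₜ 1)) = _
      rw [hω]
      simp [χ]
    · rintro q ⟨h1, h2⟩
      obtain ⟨ω', rfl⟩ := (ptFib_bijective ξ Q).2 q
      rw [fibMap_ptFib] at h1 h2
      have h1' := (ptFib_bijective ξ B).1 h1
      have h2' := (ptFib_bijective ξ A).1 h2
      refine congr_arg _ (AlgHom.ext fun z => ?_)
      obtain ⟨z, rfl⟩ := hπ _ z
      rw [hω]
      exact AlgHom.congr_fun (Algebra.TensorProduct.ext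
        (f := ω'.comp (π.hom.app ξ.base)) (g := χ)
        (AlgHom.ext fun x => (AlgHom.congr_fun h2' x).trans (by simp [χ]))
        (AlgHom.ext fun x => (AlgHom.congr_fun h1' x).trans (by simp [χ]))) z
  refine PullbackCone.IsLimit.mk _ (fun s => FintypeCat.homMk fun x =>
    (hbij (s.fst x) (s.snd x) (congr_arg (fun t : s.pt ⟶ _ => t x) s.condition)).choose) ?_ ?_ ?_
  · exact fun s => FintypeCat.hom_ext _ _ fun x =>
      (hbij (s.fst x) (s.snd x) (congr_arg (fun t : s.pt ⟶ _ => t x) s.condition)).choose_spec.1.1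
  · exact fun s => FintypeCat.hom_ext _ _ fun x =>
      (hbij (s.fst x) (s.snd x) (congr_arg (fun t : s.pt ⟶ _ => t x) s.condition)).choose_spec.1.2
  · intro s m h1 h2
    exact FintypeCat.hom_ext _ _ fun x =>
      (hbij (s.fst x) (s.snd x) (congr_arg (fun t : s.pt ⟶ _ => t x) s.condition)).choose_spec.2 (m x)
        ⟨congr_arg (fun t : s.pt ⟶ _ => t x) h1, congr_arg (fun t : s.pt ⟶ _ => t x) h2⟩

theorem fib_prod_cases (A B : FEt X) (q : ξ.Fib (prodFEt A B).obj) :
    ((∃! a, ξ.fibMap (prodFst A B).hom a = q) ∧ ∀ b, ξ.fibMap (prodSnd A B).hom b ≠ q) ∨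
    ((∃! b, ξ.fibMap (prodSnd A B).hom b = q) ∧ ∀ a, ξ.fibMap (prodFst A B).hom a ≠ q) := by
  obtain ⟨φ, rfl⟩ := (ptFib_bijective ξ _).2 q
  change A.obj.carrier ξ.base × B.obj.carrier ξ.base →ₐ[X.ring ξ.base] Ω at φ
  have h01 : φ (1, 0) + φ (0, 1) = 1 := by
    rw [← map_add, show ((1 : A.obj.carrier ξ.base), (0 : B.obj.carrier ξ.base)) + (0, 1) = 1 from
      Prod.ext (add_zero _) (zero_add _), map_one]
  have hidem : φ (1, 0) * φ (1, 0) = φ (1, 0) := by
    rw [← map_mul]; simp
  rcases (IsIdempotentElem.iff_eq_zero_or_one.mp hidem) with h | h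
  · right
    have h1 : φ (0, 1) = 1 := by rwa [h, zero_add] at h01
    let ψ : Pts ξ B :=
      { toFun := fun b => φ (0, b)
        map_one' := h1
        map_mul' := fun b b' => by rw [← map_mul, Prod.mk_mul_mk, mul_zero]
        map_zero' := map_zero φ
        map_add' := fun b b' => by rw [← map_add, Prod.mk_add_mk, add_zero]
        commutes' := fun r => by
          have := φ.commutes r
          rw [show algebraMap (X.ring ξ.base) (A.obj.carrier ξ.base × B.obj.carrier ξ.base) r =
            (algebraMap _ _ r, 0) * (1, 0) + (0, algebraMap _ _ r) from Prod.ext (by simp) (by simp),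
            map_add, map_mul, h, mul_zero, zero_add] at this
          exact this }
    have hψ : ξ.fibMap (prodSnd A B).hom (ptFib ξ B ψ) = ptFib ξ (prodFEt A B) φ := by
      rw [fibMap_ptFib]
      refine congr_arg _ (AlgHom.ext fun (x : A.obj.carrier ξ.base × B.obj.carrier ξ.base) => ?_)
      show φ (0, x.2) = φ x
      have hx : x = (x.1, 0) * (1, 0) + (0, x.2) := Prod.ext (by simp) (by simp)
      conv_rhs => rw [hx, map_add, map_mul, h, mul_zero, zero_add]
    refine ⟨⟨_, hψ, fun b hb => ?_⟩, fun a ha => ?_⟩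
    · exact fibMap_injective_of_surjective ξ (prodSnd A B) Prod.snd_surjective (hb.trans hψ.symm)
    · obtain ⟨α, rfl⟩ := (ptFib_bijective ξ A).2 a
      rw [fibMap_ptFib] at ha
      have := AlgHom.congr_fun ((ptFib_bijective ξ _).1 ha) ((1, 0) : A.obj.carrier ξ.base × B.obj.carrier ξ.base)
      have h' : (1 : Ω) = 0 := (map_one α).symm.trans (this.trans h)
      exact one_ne_zero h'
  · left
    have h1 : φ (0, 1) = 0 := by rwa [h, add_eq_left] at h01
    let ψ : Pts ξ A :=
      { toFun := fun a => φ (a, 0)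
        map_one' := h
        map_mul' := fun b b' => by rw [← map_mul, Prod.mk_mul_mk, mul_zero]
        map_zero' := map_zero φ
        map_add' := fun b b' => by rw [← map_add, Prod.mk_add_mk, add_zero]
        commutes' := fun r => by
          have := φ.commutes r
          rw [show algebraMap (X.ring ξ.base) (A.obj.carrier ξ.base × B.obj.carrier ξ.base) r =
            (algebraMap _ _ r, 0) + (0, algebraMap _ _ r) * (0, 1) from Prod.ext (by simp) (by simp),
            map_add, map_mul, h1, mul_zero, add_zero] at this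
          exact this }
    have hψ : ξ.fibMap (prodFst A B).hom (ptFib ξ A ψ) = ptFib ξ (prodFEt A B) φ := by
      rw [fibMap_ptFib]
      refine congr_arg _ (AlgHom.ext fun (x : A.obj.carrier ξ.base × B.obj.carrier ξ.base) => ?_)
      show φ (x.1, 0) = φ x
      have hx : x = (x.1, 0) + (0, x.2) * (0, 1) := Prod.ext (by simp) (by simp)
      conv_rhs => rw [hx, map_add, map_mul, h1, mul_zero, add_zero]
    refine ⟨⟨_, hψ, fun b hb => ?_⟩, fun a ha => ?_⟩
    · exact fibMap_injective_of_surjective ξ (prodFst A B) Prod.fst_surjective (hb.trans hψ.symm)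
    · obtain ⟨β, rfl⟩ := (ptFib_bijective ξ B).2 a
      rw [fibMap_ptFib] at ha
      have := AlgHom.congr_fun ((ptFib_bijective ξ _).1 ha) ((0, 1) : A.obj.carrier ξ.base × B.obj.carrier ξ.base)
      have h' : (1 : Ω) = 0 := (map_one β).symm.trans (this.trans h1)
      exact one_ne_zero h'

theorem preservesCoproducts : PreservesFiniteCoproducts ξ.fibFunctor := by
  classical
  haveI : HasBinaryProducts (FEt X) := (hasTerminal_and_hasBinaryProducts X).2
  haveI : HasTerminal (FEt X) := (hasTerminal_and_hasBinaryProducts X).1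
  haveI : HasFiniteProducts (FEt X) := hasFiniteProducts_of_has_binary_and_terminal
  haveI : PreservesColimit (Functor.empty.{0} (FEt X)ᵒᵖ) ξ.fibFunctor := by
    refine preservesColimit_of_preserves_colimit_cocone (zeroIsTerminal X).op
      ((isColimitMapCoconeEmptyCoconeEquiv _ _).symm ?_)
    haveI : IsEmpty (ξ.Fib (zeroFEt X).obj) := ⟨fun x => by
      obtain ⟨φ, -⟩ := (ptFib_bijective ξ (zeroFEt X)).2 x
      exact one_ne_zero ((map_one φ).symm.trans (map_zero φ))⟩
    exact IsInitial.ofUniqueHom (fun T => FintypeCat.homMk fun x => isEmptyElim (α := ξ.Fib (zeroFEt X).obj) x)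
      (fun T m => FintypeCat.hom_ext _ _ fun x => isEmptyElim (α := ξ.Fib (zeroFEt X).obj) x)
  haveI : PreservesColimitsOfShape (Discrete PEmpty.{1}) ξ.fibFunctor :=
    preservesColimitsOfShape_pempty_of_preservesInitial _
  haveI : PreservesColimitsOfShape (Discrete WalkingPair) ξ.fibFunctor := by
    constructor
    intro K
    suffices ∀ (A B : FEt X), PreservesColimit (pair (Opposite.op A) (Opposite.op B)) ξ.fibFunctor by
      haveI := this (K.obj ⟨WalkingPair.left⟩).unop (K.obj ⟨WalkingPair.right⟩).unop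
      exact preservesColimit_of_iso_diagram _ (diagramIsoPair K).symm
    intro A B
    refine preservesColimit_of_preserves_colimit_cocone (BinaryFan.IsLimit.op (prodIsLimit A B))
      ((isColimitMapCoconeBinaryCofanEquiv _ _ _).symm ?_)
    refine BinaryCofan.IsColimit.mk _ (fun {T} u v => FintypeCat.homMk fun q =>
      if h : ∃ a, ξ.fibMap (prodFst A B).hom a = q then u h.choose
      else v ((fib_prod_cases ξ A B q).resolve_left fun hl => h hl.1.exists).1.exists.choose) ?_ ?_ ?_
    · intro T u v
      refine FintypeCat.hom_ext _ _ fun a => ?_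
      show (dite _ _ _) = _
      have h : ∃ a', ξ.fibMap (prodFst A B).hom a' = ξ.fibMap (prodFst A B).hom a := ⟨a, rfl⟩
      refine (dif_pos h).trans ?_
      exact congr_arg _ (fibMap_injective_of_surjective ξ (prodFst A B) Prod.fst_surjective h.choose_spec)
    · intro T u v
      refine FintypeCat.hom_ext _ _ fun b => ?_
      show (dite _ _ _) = _
      have h : ¬∃ a', ξ.fibMap (prodFst A B).hom a' = ξ.fibMap (prodSnd A B).hom b := by
        rintro ⟨a, ha⟩
        rcases fib_prod_cases ξ A B (ξ.fibMap (prodSnd A B).hom b) with hl | hr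
        · exact hl.2 b rfl
        · exact hr.2 a ha
      refine (dif_neg h).trans ?_
      exact congr_arg _ (fibMap_injective_of_surjective ξ (prodSnd A B) Prod.snd_surjective
        ((fib_prod_cases ξ A B _).resolve_left fun hl => h hl.1.exists).1.exists.choose_spec)
    · intro T u v m hu hv
      refine FintypeCat.hom_ext _ _ fun q => ?_
      show _ = dite _ _ _
      split_ifs with h
      · conv_lhs => rw [← h.choose_spec]
        exact congr_arg (fun t : _ ⟶ T => t h.choose) hu
      · conv_lhs => rw [← ((fib_prod_cases ξ A B q).resolve_left fun hl => h hl.1.exists).1.exists.choose_spec]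
        exact congr_arg (fun t : _ ⟶ T =>
          t ((fib_prod_cases ξ A B q).resolve_left fun hl => h hl.1.exists).1.exists.choose) hv
  exact ⟨fun n => preservesShape_fin_of_preserves_binary_and_initial _ n⟩

theorem preservesEpis (hX : X.IsFinSp) : ξ.fibFunctor.PreservesEpimorphisms := by
  refine ⟨fun {A B} f hf => ?_⟩
  haveI : Mono f.unop := inferInstance
  refine ConcreteCategory.epi_of_surjective _ ?_
  exact fibMap_surjective_of_injective ξ f.unop (injective_of_mono hX f.unop ξ.base)

end Fibre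

end Groth.Agent.H13SchFin
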