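import Groth.Agent.H13SchFin.Points

/-! Geometric points of a schematic finite space. -/

set_option autoImplicit false

open TensorProduct

namespace Groth.Agent.H13SchFin

open SchFin

universe u

variable {X : RSpace.{u}}

/-- base change to the zero ring of sections over an empty set -/
theorem bijective_of_isEmpty {U U' : Set X.pt} {R R' : Type u} [CommRing R] [CommRing R']
    [hU : IsEmpty ↥U'] {φ : Coef X U R} {φ' : Coef X U' R'} (s : Coef.Sub φ φ') (n : ℕ) :
    Subsingleton (H φ' X.str n) := by
  haveI : IsEmpty (Chain U' n) := ⟨fun σ => isEmptyElim (σ 0)⟩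
  haveI : Subsingleton (Cochain φ' X.str n) := ⟨fun a b => funext fun σ => isEmptyElim σ⟩
  exact (Submodule.Quotient.mk_surjective _).subsingleton

theorem tensor_subsingleton_of_bc {R S : Type u} [CommRing R] [CommRing S] [Algebra R S]
    {g : R →+* S} (hg : algebraMap R S = g) {M N : Type u} [AddCommGroup M] [AddCommGroup N]
    [Module R M] [Module S N] [Subsingleton N] {f : M →ₛₗ[g] N} (h : IsBCAlong g f) :
    Subsingleton (S ⊗[R] M) :=
  (IsBCAlong.bijective hg h 0 fun _ _ => Subsingleton.elim _ _).1.subsingleton

/-- `IsBCAlong` from bijectivity -/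
theorem isBCAlong_of_bijective {R S : Type u} [CommRing R] [CommRing S] [inst : Algebra R S]
    {g : R →+* S}
    (hg : algebraMap R S = g) {M N : Type u} [AddCommGroup M] [AddCommGroup N] [Module R M]
    [Module S N] (f : M →ₛₗ[g] N) (L : S ⊗[R] M →+ N)
    (hL : ∀ s m, L (s ⊗ₜ m) = s • f m) (hbij : Function.Bijective L) : IsBCAlong g f := by
  have e : inst = g.toAlgebra := Algebra.algebra_ext _ _ fun a => RingHom.congr_fun hg a
  subst e
  letI := g.toAlgebra
  letI : Module R N := Module.compHom N g
  haveI : IsScalarTower R S N := IsScalarTower.of_algebraMap_smul fun _ _ => rfl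
  let L' : S ⊗[R] M →ₗ[S] N :=
    { L with
      map_smul' := fun a x => by
        induction x using TensorProduct.induction_on with
        | zero => simp
        | tmul s m =>
          show L (a • s ⊗ₜ[R] m) = a • L (s ⊗ₜ[R] m)
          rw [TensorProduct.smul_tmul', hL, hL, smul_eq_mul, mul_smul]
        | add p q hp hq => simp_all }
  refine IsBaseChange.of_equiv (LinearEquiv.ofBijective L' hbij) fun m => ?_
  show L (1 ⊗ₜ m) = f m
  rw [hL, one_smul]

variable {Ω : Type u} [Field Ω] [IsAlgClosed Ω]

section Point

variable {U : Set (RSpace.point Ω).pt} {R : Type u} [CommRing R] (φ : Coef (RSpace.point Ω) U R)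

/-- sections over a nonempty subset of a one-point space -/
def pointSect (q₀ : U) : (RSpace.point Ω).sectRing U ≃+ Ω where
  toFun t := t.1 q₀
  invFun c := ⟨fun _ => c, fun _ _ _ => rfl⟩
  left_inv t := Subtype.ext (funext fun q => by
    obtain rfl : q = q₀ := Subtype.ext (Subsingleton.elim (α := PUnit) _ _)
    rfl)
  right_inv _ := rfl
  map_add' _ _ := rfl

/-- degree zero cohomology over a nonempty subset of a one-point space -/
noncomputable def pointH (q₀ : U) : H φ (RSpace.point Ω).str 0 ≃+ Ω :=
  (AddEquiv.ofBijective (sectToH φ) (sectToH_bijective φ)).symm.trans (pointSect q₀)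

/-- the coefficient map to the field -/
def pointMap (q₀ : U) : R →+* Ω := φ.map q₀

theorem pointH_sectToH (q₀ : U) (t : (RSpace.point Ω).sectRing U) :
    pointH φ q₀ (sectToH φ t) = t.1 q₀ :=
  congr_arg (pointSect q₀) ((AddEquiv.ofBijective (sectToH φ) (sectToH_bijective φ)).symm_apply_apply t)

theorem pointH_smul (q₀ : U) (r : R) (h : H φ (RSpace.point Ω).str 0) :
    pointH φ q₀ (r • h) = pointMap φ q₀ r * pointH φ q₀ h := by
  obtain ⟨t, rfl⟩ := (sectToH_bijective φ).2 h
  rw [smul_sectToH, pointH_sectToH, pointH_sectToH]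
  rfl

end Point

theorem not_comap_eq_ker (hX : X.IsSchematic) (ξ : GeomPt X Ω) {x' : X.pt} (hx : ξ.base < x')
    (P : Ideal (X.ring x')) [P.IsPrime] : P.comap (X.res hx.le) ≠ RingHom.ker ξ.toField := by
  intro hP
  let x := ξ.base
  have hle : x ≤ x' := hx.le
  letI : Algebra (X.ring x) (X.ring x') := (X.res hle).toAlgebra
  haveI : IsEmpty ↥(ξ.hom.wedge PUnit.unit x') :=
    Set.isEmpty_coe_sort.mpr (Set.eq_empty_of_forall_notMem fun q hq => hx.not_ge hq.2)
  have hbc := (ξ.isSchematic.2.2 0 PUnit.unit PUnit.unit le_rfl x x' hle).2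
  haveI := bijective_of_isEmpty (X := RSpace.point Ω) (ξ.hom.subTgt PUnit.unit hle) 0
  have hsub := tensor_subsingleton_of_bc (show algebraMap (X.ring x) (X.ring x') = X.res hle from rfl) hbc
  -- a nonzero element of the fibre
  let U := ξ.hom.wedge PUnit.unit x
  let φ := Coef.ofHom ξ.hom x U (ξ.hom.wedge_subset_pre PUnit.unit x)
  haveI : (RingHom.ker ξ.toField).IsPrime := RingHom.ker_isPrime _
  have hb : Function.Bijective
      (Ideal.ResidueField.map (RingHom.ker ξ.toField) P (X.res hle) hP.symm) :=
    κMap_bijective hX (⟨x, ⟨RingHom.ker ξ.toField, inferInstance⟩⟩ : X.Pair)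
      ⟨x', ⟨P, inferInstance⟩⟩ hle (PrimeSpectrum.ext hP)
  let e := RingEquiv.ofBijective _ hb
  have hu : (RingHom.ker ξ.toField).primeCompl ≤ (IsUnit.submonoid Ω).comap ξ.toField :=
    fun r hr => IsUnit.mk0 (ξ.toField r) (show ξ.toField r ≠ 0 from hr)
  let ψ : X.ring x' →+* Ω :=
    ((Ideal.ResidueField.lift (RingHom.ker ξ.toField) ξ.toField (le_refl _) hu).comp e.symm.toRingHom).comp
      (algebraMap (X.ring x') P.ResidueField)
  have hψ : ∀ r, ψ (X.res hle r) = ξ.toField r := by
    intro r
    have he : e (algebraMap (X.ring x) _ r) = algebraMap (X.ring x') P.ResidueField (X.res hle r) :=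
      Ideal.ResidueField.map_algebraMap _ _ _ _ r
    show Ideal.ResidueField.lift _ ξ.toField (le_refl _) hu (e.symm (algebraMap (X.ring x') P.ResidueField (X.res hle r))) = _
    rw [← he, RingEquiv.symm_apply_apply]
    exact Ideal.ResidueField.lift_algebraMap _ ξ.toField (le_refl _) hu r
  have hcm : ∀ (q : U) (r : X.ring x), φ.map q r = ξ.toField r := by
    intro q r
    show ξ.hom.app PUnit.unit (X.res (le_refl x) r) = _
    exact congr_arg _ (X.res_self x r)
  let q₀ : U := ⟨PUnit.unit, le_refl _, le_refl _⟩
  letI : Module (X.ring x) Ω := Module.compHom Ω ξ.toField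
  let val : H φ (RSpace.point Ω).str 0 →ₗ[X.ring x] Ω :=
    { toFun := pointH φ q₀
      map_add' := map_add _
      map_smul' := fun r h => (pointH_smul φ q₀ r h).trans (congr_arg (· * _) (hcm q₀ r)) }
  letI : Module (X.ring x') Ω := Module.compHom Ω ψ
  haveI : IsScalarTower (X.ring x) (X.ring x') Ω := IsScalarTower.of_algebraMap_smul fun r t => by
    show ψ (X.res hle r) * t = ξ.toField r * t
    rw [hψ]
  let L := TensorProduct.lift (LinearMap.mk₂ (X.ring x) (fun (c : X.ring x') m => c • val m)
    (fun _ _ _ => add_smul _ _ _) (fun r c m => smul_assoc r c _)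
    (fun _ _ _ => by rw [map_add, smul_add])
    (fun r c m => by rw [map_smul, smul_comm]))
  have h1 : val (sectToH φ 1) = 1 := pointH_sectToH φ q₀ 1
  have : L ((1 : X.ring x') ⊗ₜ sectToH φ 1) = 1 := by
    simp [L, h1]
  exact one_ne_zero (this.symm.trans (by rw [hsub.elim ((1 : X.ring x') ⊗ₜ sectToH φ 1) 0, map_zero]))

theorem existsUnique_geomPt (hX : X.IsSchematic)
    (hff : ∀ s a b : X.pt, s ≤ a → s ≤ b → (X.up a ∩ X.up b).Nonempty →
      Module.FaithfullyFlat (X.sectRing (X.up a ∩ X.up b)) ((q : ↥(X.up a ∩ X.up b)) → X.ring q.1))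
    (a : X.Pair) (ha : ∀ b : X.Pair, X.PairRel a b → b.1 ≤ a.1) (φ : a.κ →+* Ω) :
    ∃! ξ : GeomPt X Ω, (⟨ξ.base, ξ.toField⟩ : Σ x : X.pt, (X.ring x →+* Ω)) =
      ⟨a.1, φ.comp (algebraMap (X.ring a.1) a.κ)⟩ := by
  let χ : X.ring a.1 →+* Ω := φ.comp (algebraMap (X.ring a.1) a.κ)
  let f : Hom (RSpace.point Ω) X :=
    { fn := fun _ => a.1
      mono := fun _ _ _ => le_rfl
      app := fun _ => χ
      compat := fun _ b => by
        show χ b = χ (X.res _ b)
        rw [X.res_self] }
  have hf : f.IsSchematic := by
    refine ⟨⟨fun _ => inferInstanceAs (IsNoetherianRing Ω), fun _ _ _ => RingHom.Flat.id Ω⟩, hX.1, ?_⟩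
    intro n z z' hz y y' hy
    obtain rfl : z = z' := rfl
    refine ⟨?_, ?_⟩
    · -- identity in the source
      refine isBCAlong_of_bijective (inst := Algebra.id _) rfl _
        ((TensorProduct.lid ((RSpace.point Ω).ring z)
          (H (Coef.ofLE z (f.wedge z y) (f.wedge_subset_up z y)) (RSpace.point Ω).str n)).toLinearMap.toAddMonoidHom) ?_
        (LinearEquiv.bijective _)
      intro s m
      refine (TensorProduct.lid_tmul m s).trans ?_
      congr 1
      obtain ⟨m, rfl⟩ := Submodule.Quotient.mk_surjective _ m
      rfl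
    · letI : Algebra (X.ring y) (X.ring y') := (X.res hy).toAlgebra
      cases n with
      | succ k =>
        have hs : ∀ {U : Set (RSpace.point Ω).pt} {R : Type u} [CommRing R] (ψ : Coef (RSpace.point Ω) U R),
            Subsingleton (H ψ (RSpace.point Ω).str (k + 1)) := by
          intro U R _ ψ
          haveI : Subsingleton ↥U := ⟨fun p q => Subtype.ext (Subsingleton.elim (α := PUnit) _ _)⟩
          haveI : IsEmpty (Chain U (k + 1)) := ⟨fun σ => Fin.zero_ne_one (σ.injective (Subsingleton.elim (σ 0) (σ 1)))⟩
          haveI : Subsingleton (Cochain ψ (RSpace.point Ω).str (k + 1)) :=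
            ⟨fun a b => funext fun σ => isEmptyElim σ⟩
          exact (Submodule.Quotient.mk_surjective _).subsingleton
        haveI := hs (Coef.ofHom f y (f.wedge z y) (f.wedge_subset_pre z y))
        haveI := hs (Coef.ofHom f y' (f.wedge z y') (f.wedge_subset_pre z y'))
        refine isBCAlong_of_bijective rfl _ 0 (fun _ _ => Subsingleton.elim _ _) ⟨?_, ?_⟩
        · haveI : Subsingleton (X.ring y' ⊗[X.ring y] H (Coef.ofHom f y (f.wedge z y) (f.wedge_subset_pre z y)) (RSpace.point Ω).str (k + 1)) :=
            subsingleton_of_forall_eq 0 fun t => by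
              induction t using TensorProduct.induction_on with
              | zero => rfl
              | tmul s m => rw [Subsingleton.elim m 0, tmul_zero]
              | add p q hp hq => rw [hp, hq, add_zero]
          exact Function.injective_of_subsingleton _
        · exact fun t => ⟨0, Subsingleton.elim _ _⟩
      | zero =>
        let φy := Coef.ofHom f y (f.wedge z y) (f.wedge_subset_pre z y)
        let φy' := Coef.ofHom f y' (f.wedge z y') (f.wedge_subset_pre z y')
        let s := f.subTgt z hy
        by_cases hy' : y' ≤ a.1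
        · haveI := isEpi hX hy rfl
          let e := pointH φy (⟨z, le_rfl, hy.trans hy'⟩ : f.wedge z y)
          let e' := pointH φy' (⟨z, le_rfl, hy'⟩ : f.wedge z y')
          let χ' : X.ring y' →+* Ω := χ.comp (X.res hy')
          letI : Algebra (X.ring y') Ω := χ'.toAlgebra
          letI : Algebra (X.ring y) Ω := (χ.comp (X.res (hy.trans hy'))).toAlgebra
          haveI : IsScalarTower (X.ring y) (X.ring y') Ω := IsScalarTower.of_algebraMap_eq fun r => by
            show χ (X.res _ r) = χ (X.res _ (X.res hy r))
            rw [X.res_comp]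
          have he : ∀ (r : X.ring y) m, e (r • m) = r • e m := fun r m => pointH_smul φy _ r m
          have hres : ∀ m, e' (resH (RSpace.point Ω).str s 0 m) = e m := by
            intro m
            obtain ⟨t, rfl⟩ := (sectToH_bijective φy).2 m
            rw [resH_sectToH]
            exact (pointH_sectToH φy' _ _).trans (pointH_sectToH φy _ t).symm
          let el : H φy (RSpace.point Ω).str 0 ≃ₗ[X.ring y] Ω :=
            { e with map_smul' := he }
          let T : X.ring y' ⊗[X.ring y] H φy (RSpace.point Ω).str 0 ≃+ H φy' (RSpace.point Ω).str 0 :=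
            ((LinearEquiv.lTensor (X.ring y') el).toAddEquiv.trans
              (TensorProduct.lid' (X.ring y) (X.ring y') Ω).toAddEquiv).trans e'.symm
          refine isBCAlong_of_bijective rfl _ T.toAddMonoidHom (fun c m => ?_) T.bijective
          apply e'.injective
          show e' (e'.symm (TensorProduct.lid' (X.ring y) (X.ring y') Ω
            (LinearEquiv.lTensor (X.ring y') el (c ⊗ₜ m)))) = _
          rw [AddEquiv.apply_symm_apply, LinearEquiv.lTensor_tmul, TensorProduct.lid'_apply_tmul]
          refine Eq.symm ((pointH_smul φy' _ c _).trans ?_)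
          exact congr_arg (χ' c * ·) (hres m)
        · haveI : IsEmpty ↥(f.wedge z y') :=
            Set.isEmpty_coe_sort.mpr (Set.eq_empty_of_forall_notMem fun q hq => hy' hq.2)
          haveI := bijective_of_isEmpty (X := RSpace.point Ω) s 0
          refine isBCAlong_of_bijective rfl _ 0 (fun _ _ => Subsingleton.elim _ _)
            ⟨?_, fun t => ⟨0, Subsingleton.elim _ _⟩⟩
          suffices Subsingleton (X.ring y' ⊗[X.ring y] H φy (RSpace.point Ω).str 0) from
            Function.injective_of_subsingleton _
          refine subsingleton_of_forall_eq 0 fun t => ?_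
          induction t using TensorProduct.induction_on with
          | zero => rfl
          | add p q hp hq => rw [hp, hq, add_zero]
          | tmul c m =>
            by_cases hya : y ≤ a.1
            · letI : Algebra (X.ring y) Ω := (χ.comp (X.res hya)).toAlgebra
              have key : Subsingleton (X.ring y' ⊗[X.ring y] Ω) := by
                by_contra hne
                rw [not_subsingleton_iff_nontrivial] at hne
                obtain ⟨t⟩ : Nonempty (PrimeSpectrum (X.ring y' ⊗[X.ring y] Ω)) := inferInstance
                let R' : PrimeSpectrum (X.ring y') :=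
                  PrimeSpectrum.comap Algebra.TensorProduct.includeLeftRingHom t
                have h0 : (t.asIdeal.comap (Algebra.TensorProduct.includeRight :
                    Ω →ₐ[X.ring y] X.ring y' ⊗[X.ring y] Ω).toRingHom) = ⊥ :=
                  (Ideal.eq_bot_or_top _).resolve_right (Ideal.IsPrime.ne_top inferInstance)
                have hR : PrimeSpectrum.comap (X.res hya) a.2 = PrimeSpectrum.comap (X.res hy) R' := by
                  refine PrimeSpectrum.ext (Ideal.ext fun r => ?_)
                  show X.res hya r ∈ a.2.asIdeal ↔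
                    (algebraMap (X.ring y) (X.ring y') r) ⊗ₜ[X.ring y] (1 : Ω) ∈ t.asIdeal
                  rw [← Algebra.TensorProduct.algebraMap_apply,
                    ← AlgHom.commutes (Algebra.TensorProduct.includeRight :
                      Ω →ₐ[X.ring y] X.ring y' ⊗[X.ring y] Ω) r]
                  show _ ↔ algebraMap (X.ring y) Ω r ∈ t.asIdeal.comap (Algebra.TensorProduct.includeRight :
                    Ω →ₐ[X.ring y] X.ring y' ⊗[X.ring y] Ω).toRingHom
                  rw [h0, Ideal.mem_bot]
                  show _ ↔ φ (algebraMap (X.ring a.1) a.κ (X.res hya r)) = 0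
                  rw [map_eq_zero]
                  exact Ideal.algebraMap_residueField_eq_zero.symm
                exact hy' (ha ⟨y', R'⟩ (pairRel_of_comap_eq hX hff hya hy a.2 R' hR))
              let el : H φy (RSpace.point Ω).str 0 ≃ₗ[X.ring y] Ω :=
                { pointH φy (⟨z, le_rfl, hya⟩ : f.wedge z y) with
                  map_smul' := fun r m => pointH_smul φy _ r m }
              exact (LinearEquiv.lTensor (X.ring y') el).injective (Subsingleton.elim _ _)
            · haveI : IsEmpty ↥(f.wedge z y) :=
                Set.isEmpty_coe_sort.mpr (Set.eq_empty_of_forall_notMem fun q hq => hya hq.2)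
              have : Subsingleton (H φy (RSpace.point Ω).str 0) := by
                haveI : IsEmpty (Chain (f.wedge z y) 0) := ⟨fun σ => isEmptyElim (σ 0)⟩
                haveI : Subsingleton (Cochain φy (RSpace.point Ω).str 0) :=
                  ⟨fun a b => funext fun σ => isEmptyElim σ⟩
                exact (Submodule.Quotient.mk_surjective _).subsingleton
              rw [Subsingleton.elim m 0, tmul_zero]
  refine ⟨⟨f, hf⟩, rfl, ?_⟩
  rintro ⟨⟨gfn, gm, gapp, gc⟩, hg⟩ h
  obtain ⟨h1, h2⟩ := Sigma.mk.inj_iff.mp h
  obtain rfl : gfn = fun _ => a.1 := funext fun _ => h1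
  obtain rfl : gapp = fun _ => χ := funext fun _ => eq_of_heq h2
  rfl

end Groth.Agent.H13SchFin
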