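import Groth.Agent.H13SchFin.Galois

/-! Invariants of finite groups acting on étale covers. -/

set_option autoImplicit false

open TensorProduct CategoryTheory CategoryTheory.Limits

namespace Groth.Agent.H13SchFin

open SchFin

universe u

variable {X : RSpace.{u}}

/-- local triviality of étale covers -/
def LocallyTrivial (X : RSpace.{u}) : Prop :=
  ∀ A : FEt X, ∃ (B : Alg X) (n : ℕ), B.IsCovering ∧
    ∀ p : X.pt, Nonempty (TensorProduct (X.ring p) (B.carrier p) (A.obj.carrier p) ≃ₐ[B.carrier p] (Fin n → B.carrier p))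

/-- a subalgebra stable under restrictions -/
def subAlg (A : Alg X) (S : ∀ p, Subalgebra (X.ring p) (A.carrier p))
    (hS : ∀ {p q : X.pt} (h : p ≤ q) (a : A.carrier p), a ∈ S p → A.res h a ∈ S q) : Alg X where
  carrier p := S p
  res {p q} h := ((A.res h).comp (S p).val.toRingHom).codRestrict (S q) fun a => hS h a.1 a.2
  res_algebraMap h a := Subtype.ext (A.res_algebraMap h a)
  res_self p b := Subtype.ext (A.res_self p b.1)
  res_comp h h' b := Subtype.ext (A.res_comp h h' b.1)

theorem exists_invariants (hX : X.IsFinSp) (hlt : LocallyTrivial X) (A : FEt X)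
    {G : Type u} [Group G] [Finite G] (σ : G → (A ⟶ A)) (hmul : ∀ g g', σ (g * g') = σ g' ≫ σ g)
    (hone : σ 1 = 𝟙 A) :
    ∃ (I : FEt X) (ι : I ⟶ A), (∀ p, Function.Injective (ι.hom.app p)) ∧ (∀ g, ι ≫ σ g = ι) ∧
      (∀ p a, (∀ g, (σ g).hom.app p a = a) → ∃ b, ι.hom.app p b = a) ∧
      ∀ (T : FEt X) (k : T ⟶ A), (∀ g, k ≫ σ g = k) → ∃! m : T ⟶ I, m ≫ ι = k := by
  classical
  haveI := Fintype.ofFinite G
  let S : ∀ p, Subalgebra (X.ring p) (A.obj.carrier p) := fun p => fixedSub fun g => (σ g).hom.app p
  have hmul' : ∀ p g g' (a : A.obj.carrier p),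
      (σ (g * g')).hom.app p a = (σ g).hom.app p ((σ g').hom.app p a) := fun p g g' a => by
    rw [hmul]; rfl
  have hone' : ∀ p (a : A.obj.carrier p), (σ 1).hom.app p a = a := fun p a => by rw [hone]; rfl
  have hS : ∀ {p q : X.pt} (h : p ≤ q) (a : A.obj.carrier p), a ∈ S p → A.obj.res h a ∈ S q :=
    fun h a ha => mem_fixedSub.mpr fun g => by
      rw [← (σ g).hom.compat, mem_fixedSub.mp ha g]
  have hcover : (subAlg A.obj S hS).IsEtCover := by
    refine ⟨(qcoh_iff _).mpr fun p q h => ?_, fun p => ?_⟩
    · letI := resAlg h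
      haveI : Module.Flat (X.ring p) (X.ring q) := hX.2 p q h
      have hA := (qcoh_iff _).mp A.property.1 p q h
      let a := (A.obj.res h).toAddMonoidHom
      let b : (G → A.obj.carrier p) →+ (G → A.obj.carrier q) :=
        { toFun := fun v g => A.obj.res h (v g)
          map_zero' := funext fun _ => map_zero _
          map_add' := fun _ _ => funext fun _ => map_add _ _ _ }
      have hb : ∀ (r : X.ring p) v, b (r • v) = algebraMap (X.ring p) (X.ring q) r • b v :=
        fun r v => funext fun g => res_smul A.obj h r (v g)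
      have hB : Function.Injective (liftSMul b hb) := by
        have key : ∀ z g, liftSMul b hb z g =
            liftSMul a (res_smul A.obj h) (TensorProduct.piRight (X.ring p) (X.ring p) (X.ring q)
              (fun _ : G => A.obj.carrier p) z g) := by
          intro z g
          induction z using TensorProduct.induction_on with
          | zero => simp
          | add u v hu hv => simp only [map_add, Pi.add_apply, hu, hv]
          | tmul c v => simp [a, b]
        intro z w hzw
        refine (TensorProduct.piRight (X.ring p) (X.ring p) (X.ring q)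
          (fun _ : G => A.obj.carrier p)).injective (funext fun g => hA.1 ?_)
        rw [← key, ← key, hzw]
      let L : ∀ r : X.pt, A.obj.carrier r →ₗ[X.ring r] (G → A.obj.carrier r) := fun r =>
        LinearMap.pi fun g => ((σ g).hom.app r).toLinearMap - LinearMap.id
      have hf : ∀ m, L q (a m) = b (L p m) := fun m => funext fun g => by
        show (σ g).hom.app q (A.obj.res h m) - A.obj.res h m = A.obj.res h ((σ g).hom.app p m - m)
        rw [map_sub, (σ g).hom.compat]
      have hk := kerMap_bijective a (res_smul A.obj h) b hb (L p) (L q) hf hA hB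
      have hmem : ∀ r (x : A.obj.carrier r), x ∈ LinearMap.ker (L r) ↔ x ∈ S r := fun r x =>
        ⟨fun hx => mem_fixedSub.mpr fun g => sub_eq_zero.mp (congr_fun hx g),
          fun hx => funext fun g => sub_eq_zero.mpr (mem_fixedSub.mp hx g)⟩
      let ep : (S p) ≃ₗ[X.ring p] LinearMap.ker (L p) :=
        { toFun := fun x => ⟨x.1, (hmem p _).mpr x.2⟩
          invFun := fun x => ⟨x.1, (hmem p _).mp x.2⟩
          map_add' := fun _ _ => rfl
          map_smul' := fun _ _ => rfl }
      let eq' : LinearMap.ker (L q) ≃+ (S q) :=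
        { toFun := fun x => ⟨x.1, (hmem q _).mp x.2⟩
          invFun := fun x => ⟨x.1, (hmem q _).mpr x.2⟩
          map_add' := fun _ _ => rfl }
      let Φ := eq'.toAddMonoidHom.comp ((liftSMul (kerMap a b (L p) (L q) hf)
        (kerMap_smul a (res_smul A.obj h) b (L p) (L q) hf)).comp
          (LinearEquiv.lTensor (X.ring q) ep).toLinearMap.toAddMonoidHom)
      have : ⇑(liftSMul ((subAlg A.obj S hS).res h).toAddMonoidHom (res_smul (subAlg A.obj S hS) h)) =
          eq' ∘ (liftSMul (kerMap a b (L p) (L q) hf) (kerMap_smul a (res_smul A.obj h) b (L p) (L q) hf)) ∘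
            (LinearEquiv.lTensor (X.ring q) ep) := by
        funext z
        induction z using TensorProduct.induction_on with
        | zero =>
          simp only [Function.comp_apply, map_zero]
          exact Subtype.ext rfl
        | add u v hu hv =>
          exact (map_add _ _ _).trans ((congr_arg₂ (· + ·) hu hv).trans (Φ.map_add u v).symm)
        | tmul c x => exact Subtype.ext rfl
      rw [this]
      exact eq'.bijective.comp (hk.comp (LinearEquiv.bijective _))
    · haveI := hX.1 p
      haveI := (A.property.2 p).1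
      haveI := (A.property.2 p).2
      obtain ⟨B, n, hB, hBA⟩ := hlt A
      obtain ⟨e⟩ := hBA p
      haveI := (hB.2 p).2
      refine ⟨Module.Finite.of_injective (S p).val.toLinearMap Subtype.val_injective, ?_⟩
      exact etale_fixedSub e (fun g => (σ g).hom.app p) (hmul' p) (hone' p)
  let I : FEt X := ⟨_, hcover⟩
  let ι : I ⟶ A := InducedCategory.homMk ⟨fun p => (S p).val, fun _ _ => rfl⟩
  refine ⟨I, ι, fun p => Subtype.val_injective, fun g => fet_ext fun p x => mem_fixedSub.mp x.2 g,
    fun p a ha => ⟨⟨a, mem_fixedSub.mpr ha⟩, rfl⟩, fun T k hk => ?_⟩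
  have hin : ∀ p x, k.hom.app p x ∈ S p := fun p x =>
    mem_fixedSub.mpr fun g => congr_arg (fun t : T ⟶ A => t.hom.app p x) (hk g)
  refine ⟨InducedCategory.homMk ⟨fun p => (k.hom.app p).codRestrict (S p) (hin p),
    fun h x => Subtype.ext (k.hom.compat h x)⟩, fet_ext fun _ _ => rfl, fun m hm => fet_ext fun p x => Subtype.ext ?_⟩
  exact congr_arg (fun t : T ⟶ A => t.hom.app p x) hm

theorem hasLimitsOfShape_singleObj (hX : X.IsFinSp) (hlt : LocallyTrivial X)
    (G : Type u) [Group G] [Finite G] : HasLimitsOfShape (SingleObj G) (FEt X) := by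
  refine ⟨fun K => ?_⟩
  let s : SingleObj G := SingleObj.star G
  obtain ⟨I, ι, -, hι, -, huniv⟩ := exists_invariants hX hlt (K.obj s) (fun g => K.map (X := s) (Y := s) g)
    (fun g g' => K.map_comp (X := s) (Y := s) (Z := s) g' g) (K.map_id s)
  refine ⟨⟨⟨⟨I, { app := fun _ => ι, naturality := fun _ _ g => (Category.id_comp _).trans (hι g).symm }⟩, ?_⟩⟩⟩
  refine
    { lift := fun c => (huniv c.pt (c.π.app s) fun g => c.w (j := s) (j' := s) g).choose
      fac := fun c j => (huniv c.pt (c.π.app s) fun g => c.w (j := s) (j' := s) g).choose_spec.1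
      uniq := fun c m hm => (huniv c.pt (c.π.app s) fun g => c.w (j := s) (j' := s) g).choose_spec.2 m (hm s) }

variable {Ω : Type u} [Field Ω] [IsAlgClosed Ω] (ξ : GeomPt X Ω)

attribute [local instance] baseAlg

theorem quotients (hX : X.IsFinSp) (hlt : LocallyTrivial X) (G : Type u) [Group G] [Finite G] :
    HasColimitsOfShape (SingleObj G) (FEt X)ᵒᵖ ∧
      PreservesColimitsOfShape (SingleObj G) ξ.fibFunctor := by
  let s : SingleObj G := SingleObj.star G
  have key : ∀ K : SingleObj G ⥤ (FEt X)ᵒᵖ, ∃ c : Cocone K, Nonempty (IsColimit c) ∧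
      Nonempty (IsColimit (ξ.fibFunctor.mapCocone c)) := by
    intro K
    let σ : G → ((K.obj s).unop ⟶ (K.obj s).unop) := fun g => (K.map (X := s) (Y := s) g⁻¹).unop
    obtain ⟨I, ι, hinj, hι, hfix, huniv⟩ := exists_invariants hX hlt (K.obj s).unop σ
      (fun g g' => by
        simp only [σ, mul_inv_rev]
        rw [← unop_comp]
        exact congr_arg Quiver.Hom.unop (K.map_comp (X := s) (Y := s) (Z := s) g⁻¹ g'⁻¹))
      (by
        simp only [σ, inv_one]
        exact congr_arg Quiver.Hom.unop (K.map_id s))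
    have hι' : ∀ g : G, K.map (X := s) (Y := s) g ≫ ι.op = ι.op := fun g => Quiver.Hom.unop_inj (by
      have := hι g⁻¹
      simp only [σ, inv_inv] at this
      exact this)
    have hc : ∀ (c : Cocone K), ∀ g, (c.ι.app s).unop ≫ σ g = (c.ι.app s).unop := fun c g =>
      congr_arg Quiver.Hom.unop (c.w (j := s) (j' := s) g⁻¹)
    let c : Cocone K := ⟨Opposite.op I,
      { app := fun _ => ι.op, naturality := fun _ _ g => (hι' g).trans (Category.comp_id _).symm }⟩
    refine ⟨c, ⟨⟨fun d => (huniv d.pt.unop (d.ι.app s).unop (hc d)).choose.op,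
      fun d j => Quiver.Hom.unop_inj ((huniv d.pt.unop (d.ι.app s).unop (hc d)).choose_spec.1),
      fun d m hm => Quiver.Hom.unop_inj ((huniv d.pt.unop (d.ι.app s).unop (hc d)).choose_spec.2 m.unop
        (congr_arg Quiver.Hom.unop (hm s)))⟩⟩, ?_⟩
    have hsurj : Function.Surjective (ξ.fibMap ι.hom) := fibMap_surjective_of_injective ξ ι (hinj _)
    have horb : ∀ x y, ξ.fibMap ι.hom x = ξ.fibMap ι.hom y → ∃ g, y = ξ.fibMap (σ g).hom x := by
      intro x y hxy
      obtain ⟨φ, rfl⟩ := (ptFib_bijective ξ _).2 x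
      obtain ⟨φ', rfl⟩ := (ptFib_bijective ξ _).2 y
      rw [fibMap_ptFib, fibMap_ptFib] at hxy
      have hag := (ptFib_bijective ξ I).1 hxy
      haveI := ((K.obj s).unop.property.2 ξ.base).1
      obtain ⟨g, hg⟩ := exists_orbit_eq (fun g => (σ g).hom.app ξ.base)
        (fun g g' a => by
          show (σ (g * g')).hom.app _ a = _
          simp only [σ, mul_inv_rev]
          exact congr_arg (fun t : (K.obj s) ⟶ (K.obj s) => t.unop.hom.app ξ.base a)
            (K.map_comp (X := s) (Y := s) (Z := s) g⁻¹ g'⁻¹))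
        (fun a => by
          show (σ 1).hom.app _ a = a
          simp only [σ, inv_one]
          exact congr_arg (fun t : (K.obj s) ⟶ (K.obj s) => t.unop.hom.app ξ.base a) (K.map_id s))
        φ φ' (fun a ha => by
          obtain ⟨b, rfl⟩ := hfix ξ.base a ha
          exact AlgHom.congr_fun hag b)
      exact ⟨g, by rw [fibMap_ptFib, hg]⟩
    refine ⟨⟨fun d => FintypeCat.homMk fun z => d.ι.app s (Function.surjInv hsurj z), fun d j => ?_,
      fun d m hm => ?_⟩⟩
    · refine FintypeCat.hom_ext _ _ fun x => ?_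
      obtain ⟨g, hg⟩ := horb (Function.surjInv hsurj (ξ.fibMap ι.hom x)) x (Function.surjInv_eq hsurj _)
      show d.ι.app s (Function.surjInv hsurj (ξ.fibMap ι.hom x)) = d.ι.app s x
      conv_rhs => rw [hg]
      exact (congr_arg (fun t : ξ.fibFunctor.obj (K.obj s) ⟶ d.pt => t (Function.surjInv hsurj (ξ.fibMap ι.hom x)))
        (d.w (j := s) (j' := s) g⁻¹)).symm
    · refine FintypeCat.hom_ext _ _ fun z => ?_
      show m z = d.ι.app s (Function.surjInv hsurj z)
      conv_lhs => rw [← Function.surjInv_eq hsurj z]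
      exact congr_arg (fun t : ξ.fibFunctor.obj (K.obj s) ⟶ d.pt => t (Function.surjInv hsurj z)) (hm s)
  refine ⟨⟨fun K => ?_⟩, ⟨fun {K} => ?_⟩⟩
  · obtain ⟨c, ⟨hc⟩, -⟩ := key K
    exact ⟨⟨⟨c, hc⟩⟩⟩
  · obtain ⟨c, ⟨hc⟩, ⟨hc'⟩⟩ := key K
    exact preservesColimit_of_preserves_colimit_cocone hc hc'

theorem exists_galois (hX : X.IsFinSp) (hwc : X.IsWellConnected) (hlt : LocallyTrivial X)
    (hepi : ∀ (A B : FEt X) (f : A ⟶ B), Epi f → ∀ p : X.pt, Function.Surjective (f.hom.app p)) :
    ∃ h : PreGaloisCategory (FEt X)ᵒᵖ, @PreGaloisCategory.FiberFunctor (FEt X)ᵒᵖ _ h ξ.fibFunctor := by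
  haveI : HasTerminal (FEt X) := (hasTerminal_and_hasBinaryProducts X).1
  haveI : HasBinaryProducts (FEt X) := (hasTerminal_and_hasBinaryProducts X).2
  haveI : HasFiniteProducts (FEt X) := hasFiniteProducts_of_has_binary_and_terminal
  haveI : HasInitial (FEt X) := (hasInitial_and_hasPushouts X).1
  haveI : HasPushouts (FEt X) := (hasInitial_and_hasPushouts X).2
  let h : PreGaloisCategory (FEt X)ᵒᵖ :=
    { hasTerminal := (strIsInitial X).op.hasTerminal
      hasPullbacks := inferInstance
      hasFiniteCoproducts := inferInstance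
      hasQuotientsByFiniteGroups := fun G _ _ => (quotients ξ hX hlt G).1
      monoInducesIsoOnDirectSummand := fun {A B} i hi => by
        haveI : Epi i.unop := inferInstance
        obtain ⟨D, π, -, ⟨hD⟩⟩ := exists_directFactor hX i.unop (hepi _ _ i.unop inferInstance)
        exact ⟨Opposite.op D, π.op, ⟨BinaryFan.IsLimit.op hD⟩⟩ }
  exact ⟨h,
    { preservesTerminalObjects := preservesTerminal ξ
      preservesPullbacks := preservesPullbacks ξ
      preservesFiniteCoproducts := preservesCoproducts ξ
      preservesEpis := preservesEpis ξ hX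
      preservesQuotientsByFiniteGroups := fun G _ _ => (quotients ξ hX hlt G).2
      reflectsIsos := fibFunctor_reflects ξ hX hwc }⟩

end Groth.Agent.H13SchFin
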