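import Groth.Agent.H13SchFin.Basic
import Groth.Prelude.Def_SchFin2
import Mathlib.RingTheory.Flat.FaithfullyFlat.Algebra
import Mathlib.RingTheory.Flat.Localization

/-! Local rings and residue fields along restrictions of a schematic finite space. -/

set_option autoImplicit false

open TensorProduct

namespace Groth.Agent.H13SchFin

open SchFin

universe u

/-- A flat local homomorphism which is an epimorphism is bijective. -/
theorem bijective_of_flat_isLocalHom_epi {A B : Type u} [CommRing A] [CommRing B] [IsLocalRing A]
    [IsLocalRing B] [Algebra A B] [Module.Flat A B] [IsLocalHom (algebraMap A B)]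
    (h : ∀ b : B, (1 : B) ⊗ₜ[A] b = b ⊗ₜ[A] 1) : Function.Bijective (algebraMap A B) := by
  haveI : Module.FaithfullyFlat A B := Module.FaithfullyFlat.of_flat_of_isLocalHom
  refine ⟨FaithfulSMul.algebraMap_injective A B, ?_⟩
  have hs : Function.Surjective (LinearMap.lTensor B (Algebra.linearMap A B)) := by
    intro z
    induction z using TensorProduct.induction_on with
    | zero => exact ⟨0, map_zero _⟩
    | tmul c b =>
      refine ⟨(c * b) ⊗ₜ 1, ?_⟩
      rw [LinearMap.lTensor_tmul, Algebra.linearMap_apply, map_one]
      calc (c * b) ⊗ₜ[A] (1 : B) = (c ⊗ₜ 1) * (b ⊗ₜ 1) := by simp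
        _ = (c ⊗ₜ 1) * (1 ⊗ₜ b) := by rw [h]
        _ = c ⊗ₜ b := by simp
    | add a b ha hb =>
      obtain ⟨a', rfl⟩ := ha
      obtain ⟨b', rfl⟩ := hb
      exact ⟨a' + b', map_add _ _ _⟩
  exact (Module.FaithfullyFlat.lTensor_surjective_iff_surjective A B _).mp hs

variable {X : RSpace.{u}} {x y : X.pt}

theorem localRingHom_bijective (hX : X.IsSchematic) (h : x ≤ y) (P : Ideal (X.ring y)) [P.IsPrime] :
    Function.Bijective (Localization.localRingHom (P.comap (X.res h)) P (X.res h) rfl) := by
  set g := Localization.localRingHom (P.comap (X.res h)) P (X.res h) rfl with hg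
  letI : Algebra (Localization.AtPrime (P.comap (X.res h))) (Localization.AtPrime P) := g.toAlgebra
  haveI : IsLocalHom (algebraMap (Localization.AtPrime (P.comap (X.res h))) (Localization.AtPrime P)) :=
    Localization.isLocalHom_localRingHom _ _ _ rfl
  haveI : Module.Flat (Localization.AtPrime (P.comap (X.res h))) (Localization.AtPrime P) :=
    (flat hX h).localRingHom P (P.comap (X.res h)) rfl
  refine bijective_of_flat_isLocalHom_epi fun b => ?_
  have key := ringHom_ext_of_comp_res hX h
    ((Algebra.TensorProduct.includeRight : Localization.AtPrime P →ₐ[Localization.AtPrime (P.comap (X.res h))]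
      Localization.AtPrime P ⊗[Localization.AtPrime (P.comap (X.res h))] Localization.AtPrime P).toRingHom.comp
      (algebraMap (X.ring y) (Localization.AtPrime P)))
    ((Algebra.TensorProduct.includeLeftRingHom :
      Localization.AtPrime P →+* Localization.AtPrime P ⊗[Localization.AtPrime (P.comap (X.res h))] Localization.AtPrime P).comp
      (algebraMap (X.ring y) (Localization.AtPrime P))) ?_
  · have := IsLocalization.ringHom_ext P.primeCompl key
    exact RingHom.congr_fun this b
  · ext a
    have e : algebraMap (X.ring y) (Localization.AtPrime P) (X.res h a) =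
        algebraMap (Localization.AtPrime (P.comap (X.res h))) (Localization.AtPrime P)
          (algebraMap (X.ring x) _ a) :=
      (Localization.localRingHom_to_map _ _ _ _ a).symm
    simp only [RingHom.comp_apply, e]
    exact Algebra.TensorProduct.includeRight.commutes _

theorem κMap_bijective (hX : X.IsSchematic) (a b : X.Pair) (h : a.1 ≤ b.1)
    (hp : PrimeSpectrum.comap (X.res h) b.2 = a.2) :
    Function.Bijective (RSpace.Pair.κMap a b h hp) := by
  refine ⟨RingHom.injective _, ?_⟩
  obtain ⟨y, P⟩ := b
  obtain ⟨x, Q⟩ := a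
  change x ≤ y at h
  change PrimeSpectrum.comap (X.res h) P = Q at hp
  subst hp
  intro z
  obtain ⟨w, rfl⟩ := IsLocalRing.residue_surjective z
  obtain ⟨v, hv⟩ := (localRingHom_bijective hX h P.asIdeal).2 w
  exact ⟨IsLocalRing.residue _ v, by subst hv; rfl⟩

/-- equality of pairs through the transported prime -/
theorem pair_ext {a b : X.Pair} (e : a.1 = b.1)
    (hp : PrimeSpectrum.comap (X.res e.le) b.2 = a.2) : a = b := by
  obtain ⟨x, P⟩ := a
  obtain ⟨y, Q⟩ := b
  obtain rfl : x = y := e
  have : X.res (le_refl x) = RingHom.id _ := RingHom.ext (X.res_self x)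
  have hPQ : Q = P := by
    rw [← (show PrimeSpectrum.comap (X.res (le_refl x)) Q = P from hp), this]
    exact PrimeSpectrum.ext rfl
  rw [hPQ]

end Groth.Agent.H13SchFin
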