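import Groth.Agent.H13SchFin.Local
import Mathlib.RingTheory.Spectrum.Prime.RingHom
import Mathlib.RingTheory.Spectrum.Prime.TensorProduct

/-! Schematic points of a schematic finite space. -/

set_option autoImplicit false

open TensorProduct

namespace Groth.Agent.H13SchFin

open SchFin

universe u

/-- primes with the same contraction lie below a prime of the tensor product -/
theorem exists_prime_tensorProduct {R A B : Type u} [CommRing R] [CommRing A] [CommRing B]
    [Algebra R A] [Algebra R B] (P : PrimeSpectrum A) (Q : PrimeSpectrum B)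
    (h : PrimeSpectrum.comap (algebraMap R A) P = PrimeSpectrum.comap (algebraMap R B) Q) :
    ∃ t : PrimeSpectrum (A ⊗[R] B),
      PrimeSpectrum.comap (Algebra.TensorProduct.includeLeftRingHom) t = P ∧
      PrimeSpectrum.comap (Algebra.TensorProduct.includeRight : B →ₐ[R] A ⊗[R] B).toRingHom t = Q := by
  let p := P.asIdeal.comap (algebraMap R A)
  have hP : p = P.asIdeal.comap (algebraMap R A) := rfl
  have hQ : p = Q.asIdeal.comap (algebraMap R B) := congr_arg PrimeSpectrum.asIdeal h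
  letI : Algebra p.ResidueField P.asIdeal.ResidueField :=
    (Ideal.ResidueField.map p P.asIdeal (algebraMap R A) hP).toAlgebra
  letI : Algebra p.ResidueField Q.asIdeal.ResidueField :=
    (Ideal.ResidueField.map p Q.asIdeal (algebraMap R B) hQ).toAlgebra
  obtain ⟨F, _, iP, iQ, hi⟩ : ∃ (F : Type u) (_ : Field F) (iP : P.asIdeal.ResidueField →+* F)
      (iQ : Q.asIdeal.ResidueField →+* F), ∀ c : p.ResidueField,
      iP (algebraMap _ _ c) = iQ (algebraMap _ _ c) := by
    obtain ⟨m, hm⟩ :=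
      Ideal.exists_maximal (P.asIdeal.ResidueField ⊗[p.ResidueField] Q.asIdeal.ResidueField)
    refine ⟨_, Ideal.Quotient.field m,
      (Ideal.Quotient.mk m).comp Algebra.TensorProduct.includeLeftRingHom,
      (Ideal.Quotient.mk m).comp (Algebra.TensorProduct.includeRight (R := p.ResidueField)
        (A := P.asIdeal.ResidueField)).toRingHom, fun c => ?_⟩
    exact congr_arg (Ideal.Quotient.mk m) (((Algebra.TensorProduct.includeLeft (R := p.ResidueField)
      (S := p.ResidueField) (B := Q.asIdeal.ResidueField)).commutes c).trans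
      ((Algebra.TensorProduct.includeRight (R := p.ResidueField)
        (A := P.asIdeal.ResidueField)).commutes c).symm)
  letI : Algebra R F :=
    (iP.comp ((algebraMap A P.asIdeal.ResidueField).comp (algebraMap R A))).toAlgebra
  let fA : A →ₐ[R] F := ⟨iP.comp (algebraMap A P.asIdeal.ResidueField), fun _ => rfl⟩
  let fB : B →ₐ[R] F := ⟨iQ.comp (algebraMap B Q.asIdeal.ResidueField), fun a => by
      show iQ (algebraMap B Q.asIdeal.ResidueField (algebraMap R B a)) =
        iP (algebraMap A P.asIdeal.ResidueField (algebraMap R A a))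
      rw [← Ideal.ResidueField.map_algebraMap p Q.asIdeal (algebraMap R B) hQ a,
        ← Ideal.ResidueField.map_algebraMap p P.asIdeal (algebraMap R A) hP a]
      exact (hi _).symm⟩
  let Φ := Algebra.TensorProduct.lift fA fB fun _ _ => Commute.all _ _
  refine ⟨⟨RingHom.ker Φ.toRingHom, RingHom.ker_isPrime _⟩, ?_, ?_⟩
  · refine PrimeSpectrum.ext (Ideal.ext fun a => ?_)
    show Φ (a ⊗ₜ 1) = 0 ↔ _
    rw [Algebra.TensorProduct.lift_tmul, map_one, mul_one]
    show iP (algebraMap A P.asIdeal.ResidueField a) = 0 ↔ _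
    rw [map_eq_zero]
    exact Ideal.algebraMap_residueField_eq_zero
  · refine PrimeSpectrum.ext (Ideal.ext fun a => ?_)
    show Φ (1 ⊗ₜ a) = 0 ↔ _
    rw [Algebra.TensorProduct.lift_tmul, map_one, one_mul]
    show iQ (algebraMap B Q.asIdeal.ResidueField a) = 0 ↔ _
    rw [map_eq_zero]
    exact Ideal.algebraMap_residueField_eq_zero

variable {X : RSpace.{u}}

theorem pairRel_of_comap_eq (hX : X.IsSchematic)
    (hff : ∀ s a b : X.pt, s ≤ a → s ≤ b → (X.up a ∩ X.up b).Nonempty →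
      Module.FaithfullyFlat (X.sectRing (X.up a ∩ X.up b)) ((q : ↥(X.up a ∩ X.up b)) → X.ring q.1))
    {s x y : X.pt} (hx : s ≤ x) (hy : s ≤ y) (P : PrimeSpectrum (X.ring x))
    (Q : PrimeSpectrum (X.ring y))
    (hPQ : PrimeSpectrum.comap (X.res hx) P = PrimeSpectrum.comap (X.res hy) Q) :
    X.PairRel ⟨x, P⟩ ⟨y, Q⟩ := by
  letI : Algebra (X.ring s) (X.ring x) := (X.res hx).toAlgebra
  letI : Algebra (X.ring s) (X.ring y) := (X.res hy).toAlgebra
  letI : Algebra (X.ring s) (X.sectRing (X.up x ∩ X.up y)) :=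
    ((resL x y).comp (X.res hx)).toAlgebra
  let fL : X.ring x →ₐ[X.ring s] X.sectRing (X.up x ∩ X.up y) := ⟨resL x y, fun _ => rfl⟩
  let fR : X.ring y →ₐ[X.ring s] X.sectRing (X.up x ∩ X.up y) :=
    ⟨resR x y, fun a => Subtype.ext (funext fun q =>
      (X.res_comp hy _ a).trans (X.res_comp hx (show x ≤ q.1 from q.2.1) a).symm)⟩
  let L := Algebra.TensorProduct.lift fL fR fun _ _ => Commute.all _ _
  have hL : Function.Bijective L :=
    tensor_bijective hX hx hy rfl rfl L.toRingHom.toAddMonoidHom fun a b => by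
      show L (a ⊗ₜ b) = _
      simp [L, fL, fR]
  obtain ⟨t, ht1, ht2⟩ := exists_prime_tensorProduct (R := X.ring s) P Q hPQ
  let e := RingEquiv.ofBijective L.toRingHom hL
  let t' : PrimeSpectrum (X.sectRing (X.up x ∩ X.up y)) := PrimeSpectrum.comap e.symm.toRingHom t
  have ht' : PrimeSpectrum.comap L.toRingHom t' = t := by
    refine PrimeSpectrum.ext (Ideal.ext fun a => ?_)
    show e.symm (L a) ∈ t.asIdeal ↔ _
    rw [show L a = e a from rfl, e.symm_apply_apply]
  have hne : (X.up x ∩ X.up y).Nonempty := by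
    by_contra hh
    rw [Set.not_nonempty_iff_eq_empty] at hh
    haveI : IsEmpty ↥(X.up x ∩ X.up y) := Set.isEmpty_coe_sort.mpr hh
    exact t'.isPrime.ne_top (Ideal.eq_top_iff_one _ |>.mpr
      (by rw [show (1 : X.sectRing (X.up x ∩ X.up y)) = 0 from Subtype.ext (funext fun q => isEmptyElim q)]
          exact zero_mem _))
  haveI := hff s x y hx hy hne
  obtain ⟨r, hr⟩ := PrimeSpectrum.comap_surjective_of_faithfullyFlat
    (A := X.sectRing (X.up x ∩ X.up y)) (B := (q : ↥(X.up x ∩ X.up y)) → X.ring q.1) t'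
  obtain ⟨⟨q, r'⟩, rfl⟩ := (PrimeSpectrum.sigmaToPi_bijective _).2 r
  refine ⟨q.1, q.2.1, q.2.2, r', ?_, ?_⟩
  · rw [← ht1, ← ht', ← hr]
    refine PrimeSpectrum.ext (Ideal.ext fun a => ?_)
    show X.res _ a ∈ r'.asIdeal ↔ (L (a ⊗ₜ 1)).1 q ∈ r'.asIdeal
    rw [show L (a ⊗ₜ 1) = resL x y a by simp [L, fL]]
    rfl
  · rw [← ht2, ← ht', ← hr]
    refine PrimeSpectrum.ext (Ideal.ext fun a => ?_)
    show X.res _ a ∈ r'.asIdeal ↔ (L (1 ⊗ₜ a)).1 q ∈ r'.asIdeal
    rw [show L (1 ⊗ₜ a) = resR x y a by simp [L, fR]]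
    rfl

theorem pairRel_equivalence (hX : X.IsSchematic)
    (hff : ∀ s a b : X.pt, s ≤ a → s ≤ b → (X.up a ∩ X.up b).Nonempty →
      Module.FaithfullyFlat (X.sectRing (X.up a ∩ X.up b)) ((q : ↥(X.up a ∩ X.up b)) → X.ring q.1)) :
    Equivalence X.PairRel := by
  constructor
  · intro a
    have : X.res (le_refl a.1) = RingHom.id _ := RingHom.ext (X.res_self a.1)
    exact ⟨a.1, le_rfl, le_rfl, a.2, by rw [this]; rfl, by rw [this]; rfl⟩
  · rintro a b ⟨z, ha, hb, r, h1, h2⟩
    exact ⟨z, hb, ha, r, h2, h1⟩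
  · rintro a b c ⟨z, ha, hb, r, h1, h2⟩ ⟨w, hb', hc, r', h1', h2'⟩
    obtain ⟨u, hz, hw, r'', e1, e2⟩ := pairRel_of_comap_eq hX hff hb hb' r r' (h2.trans h1'.symm)
    have comp : ∀ {p q v : X.pt} (h : p ≤ q) (h' : q ≤ v) (t : PrimeSpectrum (X.ring v)),
        PrimeSpectrum.comap (X.res (h.trans h')) t = PrimeSpectrum.comap (X.res h) (PrimeSpectrum.comap (X.res h') t) := by
      intro p q v h h' t
      refine PrimeSpectrum.ext (Ideal.ext fun a => ?_)
      show X.res _ a ∈ t.asIdeal ↔ X.res h' (X.res h a) ∈ t.asIdeal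
      rw [X.res_comp]
    refine ⟨u, ha.trans hz, hc.trans hw, r'', ?_, ?_⟩
    · rw [comp ha hz]; exact (congr_arg _ e1).trans h1
    · rw [comp hc hw]; exact (congr_arg _ e2).trans h2'

/-- the maximal representative of a schematic point -/
theorem existsUnique_maximal (hX : X.IsSchematic)
    (hff : ∀ s a b : X.pt, s ≤ a → s ≤ b → (X.up a ∩ X.up b).Nonempty →
      Module.FaithfullyFlat (X.sectRing (X.up a ∩ X.up b)) ((q : ↥(X.up a ∩ X.up b)) → X.ring q.1))
    (c : X.SchPt) :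
    ∃! a : X.Pair, Quot.mk X.PairRel a = c ∧ ∀ b : X.Pair, Quot.mk X.PairRel b = c → b.1 ≤ a.1 := by
  have heq := pairRel_equivalence hX hff
  have hrel : ∀ a b : X.Pair, Quot.mk X.PairRel a = Quot.mk X.PairRel b ↔ X.PairRel a b := fun a b =>
    ⟨fun h => heq.eqvGen_iff.mp (Quot.eqvGen_exact h), Quot.sound⟩
  obtain ⟨a₀, rfl⟩ := Quot.exists_rep c
  obtain ⟨m, hm⟩ := (Set.toFinite {p : X.pt | ∃ r, X.PairRel a₀ ⟨p, r⟩}).exists_maximal
    ⟨a₀.1, a₀.2, heq.refl a₀⟩
  obtain ⟨r, hr⟩ := hm.1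
  have hmax : ∀ b : X.Pair, Quot.mk X.PairRel b = Quot.mk X.PairRel a₀ →
      b.1 ≤ m ∧ (b.1 = m → b = ⟨m, r⟩) := by
    intro b hb
    have h0 : X.PairRel ⟨m, r⟩ b := heq.trans (heq.symm hr) (heq.symm ((hrel b a₀).mp hb))
    obtain ⟨z, hmz, hbz, t, e1, e2⟩ := h0
    have hz : z = m := le_antisymm (hm.2 ⟨t, heq.trans hr ⟨z, hmz, le_rfl, t, e1,
      PrimeSpectrum.ext (Ideal.ext fun a => by
        show X.res _ a ∈ t.asIdeal ↔ a ∈ t.asIdeal
        rw [X.res_self])⟩⟩ hmz) hmz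
    subst hz
    have et : t = r := by
      rw [← (show PrimeSpectrum.comap (X.res hmz) t = r from e1)]
      exact PrimeSpectrum.ext (Ideal.ext fun a => by
        show a ∈ t.asIdeal ↔ X.res _ a ∈ t.asIdeal
        rw [X.res_self])
    subst et
    exact ⟨hbz, fun e => pair_ext e e2⟩
  refine ⟨⟨m, r⟩, ⟨(hrel _ _).mpr (heq.symm hr), fun b hb => (hmax b hb).1⟩, ?_⟩
  rintro b ⟨hb, hb'⟩
  exact (hmax b hb).2 (le_antisymm (hmax b hb).1 (hb' ⟨m, r⟩ ((hrel _ _).mpr (heq.symm hr))))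

end Groth.Agent.H13SchFin
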